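import Mathlib

/-!
A finite group with an involution whose centraliser is a large extraspecial 2-group extended by a
simple group, the involution not being weakly closed, is simple.
-/

set_option autoImplicit false
set_option linter.unusedSectionVars false
set_option linter.style.haveILetI false

namespace Cfsg.Agent.Lib.Leech.Suz

/-- The hypotheses on the involution and its core. -/
structure CentData {S : Type*} [Group S] (z : S) (Q : Subgroup S) : Prop where
  z_ne : z ≠ 1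
  z_sq : z * z = 1
  z_mem : z ∈ Q
  le_cent : ∀ x ∈ Q, x * z = z * x
  twoGroup : IsPGroup 2 Q
  conj_mem : ∀ c : S, c * z = z * c → ∀ x ∈ Q, c * x * c⁻¹ ∈ Q
  central : ∀ x ∈ Q, (∀ y ∈ Q, x * y = y * x) → x = 1 ∨ x = z
  comm : ∀ x ∈ Q, ∀ y ∈ Q, x * y = y * x ∨ x * y = z * (y * x)
  pair : ∀ x ∈ Q, ∃ u ∈ Q, ∃ v ∈ Q, u * x = x * u ∧ v * x = x * v ∧ u * v ≠ v * u
  faithful : ∀ c : S, c * z = z * c →
    (∀ x ∈ Q, c * x = x * c ∨ c * x = z * (x * c)) → c ∈ Q
  irred : ∀ M : Subgroup S, M ≤ Q → (∀ c : S, c * z = z * c → ∀ x ∈ M, c * x * c⁻¹ ∈ M) →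
    (∃ x ∈ M, x ≠ 1 ∧ x ≠ z) → Q ≤ M
  maximal : ∀ M : Subgroup S, Q ≤ M → (∀ x ∈ M, x * z = z * x) →
    (∀ c : S, c * z = z * c → ∀ x ∈ M, c * x * c⁻¹ ∈ M) → M ≤ Q ∨ ∀ c : S, c * z = z * c → c ∈ M
  fused : ∃ g : S, g * z * g⁻¹ ∈ Q ∧ g * z * g⁻¹ ≠ z

variable {S : Type*} [Group S] [Finite S] {z : S} {Q : Subgroup S}

theorem fix_of_normalizes (h : CentData z Q) {R : Subgroup S} (hQR : Q ≤ R) (hR : ∀ x ∈ R, x * z = z * x)
    {g : S} (hg : ∀ x, x ∈ R ↔ g * x * g⁻¹ ∈ R) : g * z = z * g := by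
  have hzR : g * z * g⁻¹ ∈ R := (hg z).1 (hQR h.z_mem)
  have hc : ∀ y ∈ R, g * z * g⁻¹ * y = y * (g * z * g⁻¹) := by
    intro y hy
    have hy' : g⁻¹ * y * g ∈ R := (hg _).2 (by group; exact hy)
    have e := hR _ hy'
    calc g * z * g⁻¹ * y = g * (z * (g⁻¹ * y * g)) * g⁻¹ := by group
      _ = g * ((g⁻¹ * y * g) * z) * g⁻¹ := by rw [e]
      _ = y * (g * z * g⁻¹) := by group
  have hQ : g * z * g⁻¹ ∈ Q := h.faithful _ (hR _ hzR) fun x hx => Or.inl (hc x (hQR hx))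
  rcases h.central _ hQ fun y hy => hc y (hQR hy) with e | e
  · exact absurd (conj_eq_one_iff.1 e) h.z_ne
  · exact mul_inv_eq_iff_eq_mul.1 e

/-- A 2-subgroup containing the core centralises the involution. -/
theorem twoGroup_le (h : CentData z Q) {R : Subgroup S} (hQR : Q ≤ R) (hR : IsPGroup 2 R) :
    ∀ x ∈ R, x * z = z * x := by
  haveI : Fact (Nat.Prime 2) := ⟨Nat.prime_two⟩
  haveI : Group.IsNilpotent R := hR.isNilpotent
  let R₀ : Subgroup S := R ⊓ Subgroup.centralizer {z}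
  have hQR₀ : Q ≤ R₀ := le_inf hQR fun x hx => Subgroup.mem_centralizer_singleton_iff.2 (h.le_cent x hx)
  by_contra hne
  push Not at hne
  obtain ⟨x, hx, hxz⟩ := hne
  have hlt : R₀.subgroupOf R < ⊤ := lt_top_iff_ne_top.2 fun e => hxz (by
    have hm : (⟨x, hx⟩ : R) ∈ R₀.subgroupOf R := by rw [e]; trivial
    exact Subgroup.mem_centralizer_singleton_iff.1 (Subgroup.mem_inf.1 hm).2)
  obtain ⟨g, hgn, hg⟩ := SetLike.exists_of_lt (Group.normalizerCondition_of_isNilpotent _ hlt)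
  refine hg (Subgroup.mem_subgroupOf.2 (Subgroup.mem_inf.2 ⟨g.2, ?_⟩))
  rw [Subgroup.mem_centralizer_singleton_iff]
  refine fix_of_normalizes h hQR₀ (fun y hy => Subgroup.mem_centralizer_singleton_iff.1 (Subgroup.mem_inf.1 hy).2)
    (g := (g : S)) fun y => ?_
  constructor
  · intro hy
    exact Subgroup.mem_subgroupOf.1 ((Subgroup.mem_normalizer_iff.1 hgn ⟨y, (Subgroup.mem_inf.1 hy).1⟩).1
      (Subgroup.mem_subgroupOf.2 hy))
  · intro hy
    have hyR : y ∈ R := by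
      have := mul_mem (mul_mem (inv_mem g.2) (Subgroup.mem_inf.1 hy).1) g.2
      simpa [mul_assoc] using this
    exact Subgroup.mem_subgroupOf.1 ((Subgroup.mem_normalizer_iff.1 hgn ⟨y, hyR⟩).2
      (Subgroup.mem_subgroupOf.2 hy))

/-- An involution with trivial centraliser on an odd subgroup inverts it. -/
theorem inverts {N : Subgroup S} [N.Normal] {u : S} (hu : u * u = 1)
    (hfree : ∀ n ∈ N, n * u = u * n → n = 1) : ∀ n ∈ N, u * n * u = n⁻¹ := by
  have hu' : u⁻¹ = u := inv_eq_of_mul_eq_one_right hu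
  let f : N → N := fun n => ⟨(n : S)⁻¹ * (u * n * u⁻¹), mul_mem (inv_mem n.2) (Subgroup.Normal.conj_mem ‹_› _ n.2 u)⟩
  have hf : Function.Injective f := fun a b hab => by
    have e : (a : S)⁻¹ * (u * a * u⁻¹) = (b : S)⁻¹ * (u * b * u⁻¹) := congrArg Subtype.val hab
    have h1 : (b : S) * (a : S)⁻¹ * u = u * ((b : S) * (a : S)⁻¹) :=
      calc (b : S) * (a : S)⁻¹ * u = b * ((a : S)⁻¹ * (u * a * u⁻¹)) * (u * (a : S)⁻¹) := by group
        _ = b * ((b : S)⁻¹ * (u * b * u⁻¹)) * (u * (a : S)⁻¹) := by rw [e]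
        _ = u * ((b : S) * (a : S)⁻¹) := by group
    exact Subtype.ext (inv_inv (a : S) ▸ (eq_inv_of_mul_eq_one_left (hfree _ (mul_mem b.2 (inv_mem a.2)) h1))).symm
  intro n hn
  obtain ⟨a, ha⟩ := (Finite.injective_iff_surjective.1 hf) ⟨n, hn⟩
  have hn' : n = (a : S)⁻¹ * (u * a * u⁻¹) := (congrArg Subtype.val ha).symm
  rw [hn', hu']
  calc u * ((a : S)⁻¹ * (u * a * u)) * u = (u * (a : S)⁻¹ * u) * a * (u * u) := by group
    _ = ((a : S)⁻¹ * (u * a * u))⁻¹ := by rw [hu, mul_inv_rev, inv_inv, mul_inv_rev, mul_inv_rev, hu']; group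

theorem isSimple (h : CentData z Q) : IsSimpleGroup S ∧ ¬ IsMulCommutative S := by
  haveI : Fact (Nat.Prime 2) := ⟨Nat.prime_two⟩
  obtain ⟨g₀, htQ, htz⟩ := h.fused
  set t := g₀ * z * g₀⁻¹ with ht
  obtain ⟨u₀, hu₀, v₀, hv₀, hut, hvt, huv⟩ := h.pair t htQ
  haveI : Nontrivial S := ⟨⟨z, 1, h.z_ne⟩⟩
  refine ⟨⟨fun N hN => ?_⟩, fun hc => huv (hc.is_comm.comm u₀ v₀)⟩
  set C : Subgroup S := Subgroup.centralizer {z}
  have hC : ∀ c, c ∈ C ↔ c * z = z * c := fun c => Subgroup.mem_centralizer_singleton_iff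
  set X := N ⊓ C with hX
  have hXn : ∀ c : S, c * z = z * c → ∀ x ∈ X, c * x * c⁻¹ ∈ X := fun c hc x hx =>
    Subgroup.mem_inf.2 ⟨hN.conj_mem x (Subgroup.mem_inf.1 hx).1 c,
      mul_mem (mul_mem ((hC c).2 hc) (Subgroup.mem_inf.1 hx).2) (inv_mem ((hC c).2 hc))⟩
  -- Sylow data inside `N` when it contains the core
  have frat : Q ≤ N → ∃ R : Subgroup S, Q ≤ R ∧ R ≤ X ∧ IsPGroup 2 R ∧
      ∀ g : S, ∃ n ∈ N, g * z * g⁻¹ = n * z * n⁻¹ ∧ n⁻¹ * g ∈ C := by
    intro hQN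
    have hQ' : IsPGroup 2 (Q.subgroupOf N) := h.twoGroup.of_equiv (Subgroup.subgroupOfEquivOfLe hQN).symm
    obtain ⟨P, hP⟩ := hQ'.exists_le_sylow
    let R : Subgroup S := (P : Subgroup N).map N.subtype
    have hQR : Q ≤ R := fun x hx => ⟨⟨x, hQN hx⟩, hP (Subgroup.mem_subgroupOf.2 hx), rfl⟩
    have hR2 : IsPGroup 2 R := P.isPGroup'.map N.subtype
    have hRC := twoGroup_le h hQR hR2
    refine ⟨R, hQR, fun x hx => Subgroup.mem_inf.2 ⟨Subgroup.map_subtype_le _ hx, (hC x).2 (hRC x hx)⟩, hR2,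
      fun g => ?_⟩
    have htop := Sylow.normalizer_sup_eq_top P
    have hg : g ∈ N ⊔ Subgroup.normalizer ((R : Subgroup S) : Set S) := by
      rw [sup_comm]; rw [htop]; trivial
    obtain ⟨n, hn, c, hc, rfl⟩ := Subgroup.mem_sup_of_normal_left.1 hg
    have hcz : c * z = z * c := fix_of_normalizes h hQR hRC (fun x => Subgroup.mem_normalizer_iff.1 hc x)
    refine ⟨n, hn, ?_, ?_⟩
    · calc n * c * z * (n * c)⁻¹ = n * (c * z * c⁻¹) * n⁻¹ := by group
        _ = n * z * n⁻¹ := by rw [hcz, mul_inv_cancel_right]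
    · rw [inv_mul_cancel_left]; exact (hC c).2 hcz
  by_cases hXQ : X ≤ Q
  · by_cases hbig : ∃ x ∈ X, x ≠ 1 ∧ x ≠ z
    · exfalso
      have hQX : Q ≤ X := h.irred X hXQ hXn hbig
      obtain ⟨R, -, -, -, hfr⟩ := frat (hQX.trans inf_le_left)
      obtain ⟨n, hn, he, -⟩ := hfr g₀
      rw [← ht] at he
      have key : ∀ w ∈ Q, w * t = t * w → n⁻¹ * w * n ∈ Q := by
        intro w hw hwt
        refine hXQ (Subgroup.mem_inf.2 ⟨?_, (hC _).2 ?_⟩)
        · simpa using hN.conj_mem w ((hQX.trans inf_le_left) hw) n⁻¹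
        · rw [he] at hwt
          calc n⁻¹ * w * n * z = n⁻¹ * (w * (n * z * n⁻¹)) * n := by group
            _ = n⁻¹ * ((n * z * n⁻¹) * w) * n := by rw [hwt]
            _ = z * (n⁻¹ * w * n) := by group
      rcases h.comm _ (key u₀ hu₀ hut) _ (key v₀ hv₀ hvt) with e | e
      · refine huv ?_
        calc u₀ * v₀ = n * ((n⁻¹ * u₀ * n) * (n⁻¹ * v₀ * n)) * n⁻¹ := by group
          _ = n * ((n⁻¹ * v₀ * n) * (n⁻¹ * u₀ * n)) * n⁻¹ := by rw [e]
          _ = v₀ * u₀ := by group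
      · have e2 : u₀ * v₀ = t * (v₀ * u₀) := by
          calc u₀ * v₀ = n * ((n⁻¹ * u₀ * n) * (n⁻¹ * v₀ * n)) * n⁻¹ := by group
            _ = n * (z * ((n⁻¹ * v₀ * n) * (n⁻¹ * u₀ * n))) * n⁻¹ := by rw [e]
            _ = (n * z * n⁻¹) * (v₀ * u₀) := by group
            _ = t * (v₀ * u₀) := by rw [he]
        rcases h.comm _ hu₀ _ hv₀ with e1 | e1
        · exact huv e1
        · exact htz (mul_right_cancel (e2.symm.trans e1))
    · left
      push Not at hbig
      have hXz : ∀ x ∈ X, x = 1 ∨ x = z := fun x hx => (em (x = 1)).imp_right (hbig x hx)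
      have hzN : z ∉ N := fun hz => by
        have : t ∈ X := Subgroup.mem_inf.2 ⟨hN.conj_mem z hz g₀, (hC t).2 (h.le_cent t htQ)⟩
        rcases hXz t this with e | e
        · exact h.z_ne (conj_eq_one_iff.1 (ht ▸ e))
        · exact htz e
      have free : ∀ n ∈ N, n * z = z * n → n = 1 := fun n hn hc =>
        (hXz n (Subgroup.mem_inf.2 ⟨hn, (hC n).2 hc⟩)).resolve_right fun e => hzN (e ▸ hn)
      have freeConj : ∀ g : S, ∀ n ∈ N, n * (g * z * g⁻¹) = (g * z * g⁻¹) * n → n = 1 := by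
        intro g n hn hc
        have := free (g⁻¹ * n * g) (by simpa using hN.conj_mem n hn g⁻¹) (by
          calc g⁻¹ * n * g * z = g⁻¹ * (n * (g * z * g⁻¹)) * g := by group
            _ = g⁻¹ * ((g * z * g⁻¹) * n) * g := by rw [hc]
            _ = z * (g⁻¹ * n * g) := by group)
        calc n = g * (g⁻¹ * n * g) * g⁻¹ := by group
          _ = 1 := by rw [this]; group
      -- `z t` is conjugate to `t`
      obtain ⟨q, hq, hqt⟩ : ∃ q ∈ Q, q * t ≠ t * q := by
        by_contra! hall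
        rcases h.central t htQ fun y hy => (hall y hy).symm with e | e
        · exact h.z_ne (conj_eq_one_iff.1 (ht ▸ e))
        · exact htz e
      have hzt : (q * g₀) * z * (q * g₀)⁻¹ = z * t := by
        calc q * g₀ * z * (q * g₀)⁻¹ = q * t * q⁻¹ := by rw [ht]; group
          _ = z * t := by rw [(h.comm q hq t htQ).resolve_left hqt]; group
      have ht2 : t * t = 1 := by
        calc t * t = g₀ * (z * z) * g₀⁻¹ := by rw [ht]; group
          _ = 1 := by rw [h.z_sq]; group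
      have iz := inverts (N := N) h.z_sq free
      have it' := inverts (N := N) ht2 (fun n hn => freeConj g₀ n hn)
      rw [Subgroup.eq_bot_iff_forall]
      intro n hn
      refine freeConj (q * g₀) n hn ?_
      rw [hzt]
      have e : z * t * n * (t * z) = n := by
        calc z * t * n * (t * z) = z * (t * n * t) * z := by group
          _ = z * n⁻¹ * z := by rw [it' n hn]
          _ = n := by rw [iz _ (inv_mem hn), inv_inv]
      have hzz : z⁻¹ = z := inv_eq_of_mul_eq_one_right h.z_sq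
      calc n * (z * t) = z * t * n * (t * z) * (z * t) := by rw [e]
        _ = z * t * n * (t * (z * z) * t) := by group
        _ = z * t * n := by rw [h.z_sq, mul_one, ht2, mul_one]
  · right
    obtain ⟨x, hx, hxQ⟩ := SetLike.not_le_iff_exists.1 hXQ
    have hxz : x * z = z * x := (hC x).1 (Subgroup.mem_inf.1 hx).2
    have hbig : ∃ y ∈ X ⊓ Q, y ≠ 1 ∧ y ≠ z := by
      by_contra! hsmall
      refine hxQ (h.faithful x hxz fun w hw => ?_)
      have hy : x * w * x⁻¹ * w⁻¹ ∈ X ⊓ Q := by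
        refine Subgroup.mem_inf.2 ⟨?_, mul_mem (h.conj_mem x hxz w hw) (inv_mem hw)⟩
        have := mul_mem hx (hXn w (h.le_cent w hw) _ (inv_mem hx))
        convert this using 1
        group
      by_cases h1 : x * w * x⁻¹ * w⁻¹ = 1
      · left
        calc x * w = x * w * x⁻¹ * w⁻¹ * (w * x) := by group
          _ = w * x := by rw [h1, one_mul]
      · right
        calc x * w = x * w * x⁻¹ * w⁻¹ * (w * x) := by group
          _ = z * (w * x) := by rw [hsmall _ hy h1]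
    have hQX : Q ≤ X := (h.irred (X ⊓ Q) inf_le_right (fun c hc y hy =>
      Subgroup.mem_inf.2 ⟨hXn c hc y (Subgroup.mem_inf.1 hy).1, h.conj_mem c hc y (Subgroup.mem_inf.1 hy).2⟩)
      hbig).trans inf_le_left
    have hCX : ∀ c : S, c * z = z * c → c ∈ X := (h.maximal X hQX
      (fun y hy => (hC y).1 (Subgroup.mem_inf.1 hy).2) hXn).resolve_left hXQ
    obtain ⟨R, -, -, -, hfr⟩ := frat (hQX.trans inf_le_left)
    rw [eq_top_iff]
    intro g _
    obtain ⟨n, hn, -, hc⟩ := hfr g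
    have := mul_mem hn (Subgroup.mem_inf.1 (hCX _ ((hC _).1 hc))).1
    rwa [mul_inv_cancel_left] at this

end Cfsg.Agent.Lib.Leech.Suz
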