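import Cfsg.Agent.Lib.Leech.Suz.Data

/-!
Symplectic coordinates on the extraspecial core of the centraliser of an octad sign change, and the
action on them of the chosen element of order three.
-/

set_option autoImplicit false
set_option linter.style.haveILetI false

namespace Cfsg.Agent.Lib.Leech.Suz

open Cfsg
open Cfsg.Agent.Lib
open Cfsg.Agent.Lib.Leech.Co1TwoA
open scoped symmDiff

/-- Six coordinates. -/
abbrev I6 := (Fin 2 ⊕ Fin 2) ⊕ Fin 2

/-- Eight coordinates. -/
abbrev J8 := I6 ⊕ Fin 2

/-- The position of a coordinate in the data. -/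
def jPos : J8 → ℕ
  | .inl (.inl (.inl i)) => i.val
  | .inl (.inl (.inr i)) => 2 + i.val
  | .inl (.inr i) => 4 + i.val
  | .inr i => 6 + i.val

/-- The partner coordinate. -/
def flip8 : J8 → J8
  | .inl (.inl (.inl i)) => .inl (.inl (.inr i))
  | .inl (.inl (.inr i)) => .inl (.inl (.inl i))
  | .inl (.inr i) => .inl (.inr (Equiv.swap 0 1 i))
  | .inr i => .inr (Equiv.swap 0 1 i)

/-- The permutation and mask of a basis element. -/
def vl (j : J8) : List ℕ := (vData.getD (jPos j) ([], 0)).1

/-- The mask of a basis element. -/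
def vm (j : J8) : ℕ := (vData.getD (jPos j) ([], 0)).2

/-- The permutation of an image. -/
def il (j : J8) : List ℕ := (imgData.getD (jPos j) ([], 0, false)).1

/-- The mask of an image. -/
def im' (j : J8) : ℕ := (imgData.getD (jPos j) ([], 0, false)).2.1

theorem data_mem : ∀ j : J8, (fixList.contains (vl j) && disjWords.contains (vm j) &&
    (fixList.contains (il j) && disjWords.contains (im' j))) = true := by decide +kernel

theorem vl_mem (j : J8) : vl j ∈ fixList := by
  have h := data_mem j; simp only [Bool.and_eq_true] at h; simpa using h.1.1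
theorem vm_mem (j : J8) : vm j ∈ disjWords := by
  have h := data_mem j; simp only [Bool.and_eq_true] at h; simpa using h.1.2
theorem il_mem (j : J8) : il j ∈ fixList := by
  have h := data_mem j; simp only [Bool.and_eq_true] at h; simpa using h.2.1
theorem im_mem (j : J8) : im' j ∈ disjWords := by
  have h := data_mem j; simp only [Bool.and_eq_true] at h; simpa using h.2.2

/-- A basis element. -/
noncomputable def vQ (j : J8) : bigQ := ⟨qElt (vl_mem j) (vm j), qElt_mem (vl_mem j) (vm_mem j)⟩

/-- The image of a basis element. -/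
noncomputable def iQ (j : J8) : bigQ := ⟨qElt (il_mem j) (im' j), qElt_mem (il_mem j) (im_mem j)⟩

/-- The central involution of the core. -/
noncomputable def zQ : bigQ := ⟨qElt id_mem coMask, qElt_mem id_mem coMask_mem⟩

theorem zQ_ne_one : zQ ≠ 1 := fun h => by
  have h2 : ((zQ : centZ) : Spor.Co1) = 1 := by rw [h]; rfl
  exact zBar_ne_one (qElt_co.symm.trans h2)

theorem coe_zQ : ((zQ : centZ) : Spor.Co1) = zBar := qElt_co

theorem zQ_comm (x : centZ) : (zQ : centZ) * x = x * (zQ : centZ) := Subtype.ext (by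
  show ((zQ : centZ) : Spor.Co1) * (x : Spor.Co1) = (x : Spor.Co1) * ((zQ : centZ) : Spor.Co1)
  rw [coe_zQ]
  exact (Subgroup.mem_centralizer_singleton_iff.1 x.2).symm)

theorem zQ_comm' (x : bigQ) : zQ * x = x * zQ := Subtype.ext (zQ_comm x.1)

theorem zQ_sq : zQ * zQ = 1 := Subtype.ext (Subtype.ext (by
  show (qElt id_mem coMask : Spor.Co1) * qElt id_mem coMask = 1
  rw [qElt_co, ← sq, ← orderOf_zBar, pow_orderOf_eq_one]))

theorem comm_or' (x y : bigQ) : x * y = y * x ∨ x * y = zQ * (y * x) :=
  (comm_or x.2 y.2).imp (fun e => Subtype.ext e) fun e => Subtype.ext e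

theorem sq_or' (x : bigQ) : x * x = 1 ∨ x * x = zQ :=
  (sq_or x.2).imp (fun e => Subtype.ext e) fun e => Subtype.ext e

/-- Equality on the core is decidable. -/
noncomputable instance : DecidableEq bigQ := fun _ _ => _root_.Classical.propDecidable _

/-! ### The commutation pairing -/

/-- Whether two elements of the core commute, as a bit. -/
noncomputable def cbit (x y : bigQ) : ZMod 2 := if x * y = y * x then 0 else 1

theorem cbit_spec (x y : bigQ) :
    x * y = (if cbit x y = 0 then 1 else zQ) * (y * x) := by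
  unfold cbit
  by_cases h : x * y = y * x
  · rw [if_pos h, if_pos rfl, one_mul, h]
  · rw [if_neg h, if_neg (by decide)]
    exact (comm_or' x y).resolve_left h

theorem pow_bit_mul (a b : ZMod 2) :
    ((if a = 0 then 1 else zQ) * if b = 0 then 1 else zQ : bigQ) = if a + b = 0 then 1 else zQ := by
  rcases zmod2_cases a with rfl | rfl <;> rcases zmod2_cases b with rfl | rfl <;>
    simp [zQ_sq, show (1 : ZMod 2) + 1 = 0 by decide]

theorem eq_bit {a b : ZMod 2} (h : (if a = 0 then (1 : bigQ) else zQ) = if b = 0 then 1 else zQ) :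
    a = b := by
  rcases zmod2_cases a with rfl | rfl <;> rcases zmod2_cases b with rfl | rfl <;> simp at h ⊢ <;>
    first | exact zQ_ne_one h | exact zQ_ne_one h.symm

theorem bit_central (a : ZMod 2) (x : bigQ) :
    (if a = 0 then 1 else zQ) * x = x * (if a = 0 then (1 : bigQ) else zQ) := by
  split
  · simp
  · exact zQ_comm' x

theorem cbit_mul (x y w : bigQ) : cbit (x * y) w = cbit x w + cbit y w := by
  refine eq_bit (mul_right_cancel (b := w * (x * y)) ?_)
  rw [← cbit_spec, ← pow_bit_mul]
  calc x * y * w = x * (y * w) := mul_assoc _ _ _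
    _ = x * ((if cbit y w = 0 then 1 else zQ) * (w * y)) := by rw [← cbit_spec]
    _ = (if cbit y w = 0 then 1 else zQ) * (x * w * y) := by
      rw [← mul_assoc, ← bit_central]; simp only [mul_assoc]
    _ = (if cbit y w = 0 then 1 else zQ) * ((if cbit x w = 0 then 1 else zQ) * (w * x) * y) := by
      rw [← cbit_spec]
    _ = _ := by
      simp only [← mul_assoc]
      rw [bit_central (cbit y w) (if cbit x w = 0 then 1 else zQ)]

theorem cbit_symm (x y : bigQ) : cbit x y = cbit y x := by
  unfold cbit
  exact if_congr eq_comm rfl rfl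

theorem cbit_one (w : bigQ) : cbit 1 w = 0 := by
  simp [cbit]

theorem cbit_zQ (w : bigQ) : cbit zQ w = 0 := by
  simp [cbit, zQ_comm']

/-- The test for commutation of two listed elements. -/
def cData (l : List ℕ) (m : ℕ) (l' : List ℕ) (m' : ℕ) : ZMod 2 :=
  if m ^^^ Golay.imageMask l m' = m' ^^^ Golay.imageMask l' m then 0 else 1

theorem cbit_qElt {l l' : List ℕ} (hl : l ∈ fixList) (hl' : l' ∈ fixList) {m m' : ℕ}
    (hm : m ∈ disjWords) (hm' : m' ∈ disjWords) :
    cbit ⟨qElt hl m, qElt_mem hl hm⟩ ⟨qElt hl' m', qElt_mem hl' hm'⟩ = cData l m l' m' := by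
  unfold cbit cData
  refine if_congr ⟨fun h => eq_of_comm hl hl' hm hm' (congrArg Subtype.val h), fun h => ?_⟩ rfl rfl
  refine Subtype.ext (Subtype.ext ?_)
  show ((qElt hl m * qElt hl' m' : centZ) : Spor.Co1) = _
  rw [qElt_mul hl hl' hm hm']
  show _ = ((qElt hl' m' * qElt hl m : centZ) : Spor.Co1)
  rw [qElt_mul hl' hl hm' hm]
  exact congrArg proj (monoS_congr (rho_comm hl hl') (by rw [h]))

/-- The coordinates. -/
noncomputable def kap (x : bigQ) : J8 → ZMod 2 := fun j => cbit x (vQ (flip8 j))

theorem kap_mul (x y : bigQ) : kap (x * y) = kap x + kap y := funext fun _ => cbit_mul _ _ _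
theorem kap_one : kap 1 = 0 := funext fun _ => cbit_one _
theorem kap_zQ : kap zQ = 0 := funext fun _ => cbit_zQ _

theorem kap_inv (x : bigQ) : kap x⁻¹ = kap x := by
  have h := kap_mul x⁻¹ x
  rw [inv_mul_cancel, kap_one] at h
  funext j
  exact (CharTwo.add_eq_zero.1 (congrFun h j).symm)

theorem gram : ∀ i j : J8, cData (vl i) (vm i) (vl (flip8 j)) (vm (flip8 j)) = (Pi.single i (1 : ZMod 2) : J8 → ZMod 2) j := by
  decide +kernel

theorem kap_vQ (i : J8) : kap (vQ i) = Pi.single i 1 :=
  funext fun j => (cbit_qElt (vl_mem i) (vl_mem (flip8 j)) (vm_mem i) (vm_mem (flip8 j))).trans (gram i j)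

/-- The coordinates as a homomorphism. -/
noncomputable def kapHom : bigQ →* Multiplicative (J8 → ZMod 2) where
  toFun x := Multiplicative.ofAdd (kap x)
  map_one' := by rw [kap_one]; rfl
  map_mul' x y := by rw [kap_mul]; rfl

theorem kap_surjective (e : J8 → ZMod 2) : ∃ x : bigQ, kap x = e := by
  suffices h : ∀ s : Finset J8, ∃ x : bigQ, kap x = ∑ j ∈ s, Pi.single j 1 by
    obtain ⟨x, hx⟩ := h (Finset.univ.filter fun j => e j = 1)
    refine ⟨x, hx.trans (funext fun k => ?_)⟩
    rw [Finset.sum_apply]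
    simp only [Pi.single_apply, Finset.sum_ite_eq, Finset.mem_filter, Finset.mem_univ, true_and]
    rcases zmod2_cases (e k) with h1 | h1 <;> rw [h1] <;> simp
  intro s
  induction s using Finset.induction_on with
  | empty => exact ⟨1, by simpa using kap_one⟩
  | insert j s hj ih =>
    obtain ⟨x, hx⟩ := ih
    exact ⟨vQ j * x, by rw [Finset.sum_insert hj, kap_mul, kap_vQ, hx]⟩

theorem card_kapKer : Nat.card kapHom.ker = 2 := by
  haveI := finite_co0
  have hsur : Function.Surjective kapHom := by
    intro e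
    obtain ⟨x, hx⟩ := kap_surjective (Multiplicative.toAdd e)
    exact ⟨x, Multiplicative.toAdd.injective (by show kap x = _; exact hx)⟩
  have h := kapHom.ker.card_eq_card_quotient_mul_card_subgroup
  rw [Nat.card_congr (QuotientGroup.quotientKerEquivOfSurjective kapHom hsur).toEquiv, card_bigQ,
    show Nat.card (Multiplicative (J8 → ZMod 2)) = 256 by
      rw [Nat.card_congr Multiplicative.toAdd, Nat.card_eq_fintype_card, Fintype.card_fun]; simp [ZMod.card]] at h
  omega

theorem eq_of_kap_eq_zero {x : bigQ} (h : kap x = 0) : x = 1 ∨ x = zQ := by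
  by_contra hne
  push Not at hne
  haveI := finite_co0
  have hmem : ∀ y : bigQ, kap y = 0 → y ∈ kapHom.ker := fun y hy => by
    show Multiplicative.ofAdd (kap y) = 1
    rw [hy]; rfl
  obtain ⟨a, b, -, hab⟩ := Nat.card_eq_two_iff.1 card_kapKer
  have mem : ∀ y : kapHom.ker, y = a ∨ y = b := fun y => by
    have : y ∈ ({a, b} : Set kapHom.ker) := by rw [hab]; trivial
    simpa using this
  rcases mem ⟨1, one_mem _⟩ with h1 | h1 <;> rcases mem ⟨zQ, hmem _ kap_zQ⟩ with h2 | h2 <;>
    rcases mem ⟨x, hmem _ h⟩ with h3 | h3 <;>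
    first
      | exact zQ_ne_one (congrArg Subtype.val (h2.trans h1.symm))
      | exact hne.1 (congrArg Subtype.val (h3.trans h1.symm))
      | exact hne.2 (congrArg Subtype.val (h3.trans h2.symm))

theorem eq_or_of_kap_eq {x y : bigQ} (h : kap x = kap y) : x = y ∨ x = zQ * y := by
  have : kap (x * y⁻¹) = 0 := by
    rw [kap_mul, kap_inv, h]; funext j; exact CharTwo.add_self_eq_zero _
  rcases eq_of_kap_eq_zero this with e | e
  · exact Or.inl (mul_inv_eq_one.1 e)
  · exact Or.inr (mul_inv_eq_iff_eq_mul.1 e)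

/-- Induction over the core. -/
theorem bigQ_induction {P : bigQ → Prop} (h1 : P 1) (hz : ∀ x, P x → P (zQ * x))
    (hv : ∀ j x, P x → P (vQ j * x)) (x : bigQ) : P x := by
  classical
  obtain ⟨y, hy, hxy⟩ : ∃ y, P y ∧ kap y = kap x := by
    suffices h : ∀ s : Finset J8, ∃ y, P y ∧ kap y = ∑ j ∈ s, Pi.single j 1 by
      obtain ⟨y, hy, hy'⟩ := h (Finset.univ.filter fun j => kap x j = 1)
      refine ⟨y, hy, hy'.trans (funext fun k => ?_)⟩
      rw [Finset.sum_apply]
      simp only [Pi.single_apply, Finset.sum_ite_eq, Finset.mem_filter, Finset.mem_univ, true_and]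
      rcases zmod2_cases (kap x k) with h1 | h1 <;> rw [h1] <;> simp
    intro s
    induction s using Finset.induction_on with
    | empty => exact ⟨1, h1, by simpa using kap_one⟩
    | insert j s hj ih =>
      obtain ⟨y, hy, hy'⟩ := ih
      exact ⟨vQ j * y, hv j y hy, by rw [Finset.sum_insert hj, kap_mul, kap_vQ, hy']⟩
  rcases eq_or_of_kap_eq hxy.symm with e | e <;> rw [e]
  · exact hy
  · exact hz y hy

theorem flip8_flip8 : ∀ j, flip8 (flip8 j) = j := by decide

/-! ### The quadratic form -/

/-- Whether an element squares to the identity, as a bit. -/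
noncomputable def sbit (x : bigQ) : ZMod 2 := if x * x = 1 then 0 else 1

theorem sbit_spec (x : bigQ) : x * x = if sbit x = 0 then 1 else zQ := by
  unfold sbit
  by_cases h : x * x = 1
  · simp [h]
  · rw [if_neg h, if_neg (by decide)]; exact (sq_or' x).resolve_left h

theorem sbit_mul (x y : bigQ) : sbit (x * y) = sbit x + sbit y + cbit y x := by
  refine eq_bit ?_
  rw [← sbit_spec, ← pow_bit_mul, ← pow_bit_mul, ← sbit_spec, ← sbit_spec]
  calc x * y * (x * y) = x * (y * x) * y := by simp only [mul_assoc]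
    _ = x * ((if cbit y x = 0 then 1 else zQ) * (x * y)) * y := by rw [← cbit_spec]
    _ = (if cbit y x = 0 then 1 else zQ) * (x * x * (y * y)) := by
      rw [← mul_assoc x (if cbit y x = 0 then 1 else zQ), ← bit_central (cbit y x) x]
      simp only [mul_assoc]
    _ = _ := bit_central _ _

theorem sbit_one : sbit 1 = 0 := by simp [sbit]
theorem sbit_zQ : sbit zQ = 0 := by simp [sbit, zQ_sq]

/-- The test for squaring to the identity. -/
def sData (l : List ℕ) (m : ℕ) : ZMod 2 := if m ^^^ Golay.imageMask l m = 0 then 0 else 1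

theorem sbit_qElt {l : List ℕ} (hl : l ∈ fixList) {m : ℕ} (hm : m ∈ disjWords) :
    sbit ⟨qElt hl m, qElt_mem hl hm⟩ = sData l m := by
  classical
  have hsq : (rho l).1 * (rho l).1 = 1 :=
    congrArg Subtype.val ((Golay.Struct.sqOne_iff (fix_ok hl).1).1
      (List.all_eq_true.1 table_check.2.2.2.1 l hl))
  have e : proj (monoS ((rho l).1 * (rho l).1) (mul_mem (rho l).2 (rho l).2) (cs (m ^^^ Golay.imageMask l m))
      (cs_code _)) = proj (monoS 1 (one_mem M24) (cs (m ^^^ Golay.imageMask l m)) (cs_code _)) :=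
    congrArg proj (monoS_congr hsq rfl)
  unfold sbit sData
  refine if_congr ⟨fun h => ?_, fun h => ?_⟩ rfl rfl
  · have h' : ((qElt hl m * qElt hl m : centZ) : Spor.Co1) = 1 := congrArg (fun q : bigQ => ((q : centZ) : Spor.Co1)) h
    rw [qElt_mul hl hl hm hm, e, ← show proj (monoS 1 (one_mem M24) (cs 0) (cs_code 0)) = 1 by
      rw [monoS_congr (hτ := one_mem M24) (ht := Golay.isCodeSet_empty) rfl cs_zero, monoS_one, map_one]] at h'
    exact (proj_inj (xor_mem hm (table hl hm).2) zero_mem_disj h').2
  · refine Subtype.ext (Subtype.ext ?_)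
    show ((qElt hl m * qElt hl m : centZ) : Spor.Co1) = 1
    rw [qElt_mul hl hl hm hm, e, h, monoS_congr (hτ := one_mem M24) (ht := Golay.isCodeSet_empty) rfl cs_zero,
      monoS_one, map_one]

/-- The quadratic form in eight coordinates. -/
def q8 (e : J8 → ZMod 2) : ZMod 2 :=
  quadFormMinus 2 (ZMod 2) 1 1 (fun i => e (.inl i)) +
    (e (.inr 0) ^ 2 + e (.inr 0) * e (.inr 1) + e (.inr 1) ^ 2)

theorem q8_gen : ∀ j : J8, sData (vl j) (vm j) = q8 (Pi.single j 1) := by decide +kernel

theorem q8_step : ∀ (e : J8 → ZMod 2) (j : J8),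
    q8 (Pi.single j 1 + e) = q8 (Pi.single j 1) + q8 e + e (flip8 j) := by decide +kernel

theorem sbit_eq (x : bigQ) : sbit x = q8 (kap x) := by
  induction x using bigQ_induction with
  | h1 => rw [sbit_one, kap_one]; decide +kernel
  | hz y hy => rw [sbit_mul, sbit_zQ, cbit_symm, cbit_zQ, kap_mul, kap_zQ, zero_add, zero_add, add_zero, hy]
  | hv j y hy =>
    rw [sbit_mul, kap_mul, kap_vQ, q8_step, ← q8_gen, ← hy,
      show sbit (vQ j) = sData (vl j) (vm j) from sbit_qElt (vl_mem j) (vm_mem j)]
    congr 1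
    show cbit y (vQ j) = cbit y (vQ (flip8 (flip8 j)))
    rw [flip8_flip8]

/-! ### The element of order three -/

theorem aWord_ok : aWord.all Step.stabOk = true := by decide +kernel

/-- The element of order three. -/
noncomputable def aS : stab := wordStab aWord aWord_ok

theorem aS_val : (aS : Co0) = wordCo aWord := rfl

theorem aS_cube : aS * aS * aS = 1 := Subtype.ext (by
  show wordCo aWord * wordCo aWord * wordCo aWord = 1
  rw [← wordCo_append, ← wordCo_append, show (1 : Co0) = wordCo [] by simp [wordCo]]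
  exact eq_of_sameWord (by decide +kernel))

theorem negWord_eq : wordCo negWord = negCo := by
  refine co0_ext_pt8 fun p => Subtype.ext ?_
  rw [word_smul (by decide +kernel) (frameL (Golay.idx p)) (pt8 p) (by rw [← vec8_pt, Golay.pt_idx]; rfl),
    negCo_smul]
  show _ = -vec8 p
  have h : ∀ i : Fin 24, ∀ q : GolayPt, vecOf (wordL negWord (frameL i)) q = -vecOf (frameL i) q := by
    decide +kernel
  funext q
  rw [h, Pi.neg_apply, ← vec8_pt, Golay.pt_idx]

/-- The element of order three in the centraliser in `Co₁`. -/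
noncomputable def aZ : centZ := theta aS

/-- Conjugation by an element of the centraliser, on the core. -/
noncomputable def conjQ (c : centZ) (x : bigQ) : bigQ :=
  ⟨c * (x : centZ) * c⁻¹, Subgroup.Normal.conj_mem inferInstance _ x.2 c⟩

theorem conjQ_mul (c : centZ) (x y : bigQ) : conjQ c (x * y) = conjQ c x * conjQ c y :=
  Subtype.ext (by simp [conjQ, mul_assoc])

theorem conjQ_zQ (c : centZ) : conjQ c zQ = zQ :=
  Subtype.ext (by show c * (zQ : centZ) * c⁻¹ = _; rw [← zQ_comm c, mul_inv_cancel_right])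

theorem conjQ_conjQ (c d : centZ) (x : bigQ) : conjQ c (conjQ d x) = conjQ (c * d) x :=
  Subtype.ext (by simp [conjQ, mul_assoc])

theorem conjQ_one_left (x : bigQ) : conjQ 1 x = x := Subtype.ext (by simp [conjQ])
theorem conjQ_one (c : centZ) : conjQ c 1 = 1 := Subtype.ext (by simp [conjQ])

theorem img_check : ∀ j : J8,
    sameWord (aWord ++ [Step.m (vl j) (vm j)]) ([Step.m (il j) (im' j)] ++ aWord) = true := by
  decide +kernel

theorem conjQ_aZ_vQ (j : J8) : conjQ aZ (vQ j) = iQ j := by
  refine Subtype.ext (mul_inv_eq_iff_eq_mul.2 (Subtype.ext ?_))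
  show proj (aS : Co0) * proj (elt (vl j) (vm j)) = proj (elt (il j) (im' j)) * proj (aS : Co0)
  rw [← map_mul, ← map_mul, aS_val]
  refine congrArg proj ?_
  have h := eq_of_sameWord (img_check j)
  rw [wordCo_append, wordCo_append, wordCo_singleton, wordCo_singleton] at h
  exact h

/-- The effect of the element of order three on coordinates. -/
def rot (e : J8 → ZMod 2) : J8 → ZMod 2
  | .inl i => e (.inl i)
  | .inr i => if i = 0 then e (.inr 1) else e (.inr 0) + e (.inr 1)

theorem rot_gen : ∀ j k : J8, cData (il j) (im' j) (vl (flip8 k)) (vm (flip8 k)) = rot (Pi.single j 1) k := by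
  decide +kernel

theorem rot_add : ∀ (a b : J8 → ZMod 2), rot (a + b) = rot a + rot b := by
  intro a b; funext k
  rcases k with k | k
  · rfl
  · fin_cases k <;> simp [rot]; ring

theorem kap_conj_aZ (x : bigQ) : kap (conjQ aZ x) = rot (kap x) := by
  induction x using bigQ_induction with
  | h1 => rw [conjQ_one, kap_one]; decide +kernel
  | hz y hy => rw [conjQ_mul, conjQ_zQ, kap_mul, kap_mul, kap_zQ, zero_add, zero_add, hy]
  | hv j y hy =>
    rw [conjQ_mul, kap_mul, kap_mul, rot_add, hy, conjQ_aZ_vQ, kap_vQ]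
    congr 1
    funext k
    exact (cbit_qElt (il_mem j) (vl_mem (flip8 k)) (im_mem j) (vm_mem (flip8 k))).trans (rot_gen j k)

theorem aZ_cube : aZ * aZ * aZ = 1 := by rw [aZ, ← map_mul, ← map_mul, aS_cube, map_one]

/-- An element is fixed exactly when its last two coordinates vanish. -/
theorem conjQ_aZ_eq_iff (x : bigQ) : conjQ aZ x = x ↔ ∀ i : Fin 2, kap x (.inr i) = 0 := by
  constructor
  · intro h
    have e := (congrArg kap h).symm.trans (kap_conj_aZ x)
    have key : ∀ v : J8 → ZMod 2, v = rot v → ∀ i : Fin 2, v (.inr i) = 0 := by decide +kernel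
    exact key _ e
  · intro h
    have e : kap (conjQ aZ x) = kap x := by
      rw [kap_conj_aZ]
      funext k
      rcases k with k | k
      · rfl
      · fin_cases k <;> simp [rot, h]
    refine (eq_or_of_kap_eq e).resolve_right fun hz => zQ_ne_one ?_
    have h3 : conjQ aZ (conjQ aZ (conjQ aZ x)) = zQ * x := by
      rw [hz, conjQ_mul, conjQ_zQ, hz, ← mul_assoc, zQ_sq, one_mul, hz]
    rw [conjQ_conjQ, conjQ_conjQ, aZ_cube, conjQ_one_left] at h3
    exact (mul_eq_right.1 h3.symm)

end Cfsg.Agent.Lib.Leech.Suz
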