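import Mathlib

/-!
Commutators of reflections in six variables over two elements, their two orbits on nonzero vectors,
and the unit vectors as sums of orbit members.
-/

set_option autoImplicit false

namespace Cfsg.Agent.Lib.Leech.Suz

/-- Pairs of reflection vectors. -/
def reflPairs : List (ℕ × ℕ) := [(18, 25), (22, 63), (5, 57)]

/-- The orbits. -/
def sixOrbits : List (List ℕ) := [[1, 23, 61, 62, 46, 43, 4, 39, 2, 55, 29, 59, 53, 30, 27, 37, 8, 15, 45, 12, 21, 9, 26, 3, 42, 6, 58], [5, 28, 44, 60, 14, 10, 32, 19, 16, 57, 24, 50, 35, 51, 54, 25, 47, 41, 49, 33, 36, 11, 40, 31, 56, 18, 38, 22, 48, 63, 13, 52, 17, 20, 7, 34]]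

/-- The spanning trees. -/
def sixTrees : List (List (ℕ × ℕ)) := [[(0, 0), (0, 1), (0, 2), (1, 1), (1, 2), (2, 1), (2, 2), (3, 0), (3, 2), (4, 0), (6, 0), (6, 1), (7, 0), (7, 2), (8, 0), (9, 0), (9, 1), (10, 0), (11, 1), (12, 2), (13, 0), (14, 0), (15, 1), (16, 0), (23, 1), (23, 2), (25, 2)], [(0, 0), (0, 0), (0, 1), (0, 2), (1, 0), (1, 1), (1, 2), (2, 1), (2, 2), (3, 2), (4, 1), (4, 2), (5, 1), (5, 2), (6, 1), (6, 2), (7, 2), (8, 2), (10, 1), (10, 2), (11, 1), (11, 2), (12, 0), (12, 2), (13, 0), (15, 0), (15, 1), (16, 2), (17, 0), (17, 1), (18, 2), (21, 1), (22, 2), (23, 0), (24, 1), (28, 0)]]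

/-- The unit vectors as sums of orbit members. -/
def sixExpr : List (List (List ℕ)) := [[[0], [0, 2, 3], [1, 2, 4], [0, 4, 7], [3, 4], [1, 3, 4, 7]], [[0, 4, 5], [1, 2, 3, 4], [4, 5], [1, 2, 3, 4, 5], [2, 3], [1, 3]]]

end Cfsg.Agent.Lib.Leech.Suz
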