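import Cfsg.Agent.Lib.Leech.Suz.BigQ
import Cfsg.Agent.Lib.Leech.Suz.IrredData
import Cfsg.Agent.Lib.FischerType.OmegaSix

/-!
The commutator subgroup of the minus isometry group in dimension six over two elements: order, simplicity,
and irreducibility on the natural module.
-/

set_option autoImplicit false
set_option linter.style.haveILetI false

namespace Cfsg.Agent.Lib.Leech.Suz

open Cfsg
open Cfsg.Agent.Lib
open Cfsg.Agent.Lib.Leech.Co1TwoA
open scoped commutatorElement

/-- The quadratic form in six variables. -/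
abbrev q6 : (I6 → ZMod 2) → ZMod 2 := quadFormMinus 2 (ZMod 2) 1 1

/-- The isometry group. -/
abbrev O6 : Subgroup (Matrix.GeneralLinearGroup I6 (ZMod 2)) := isometryGroup (ZMod 2) q6

/-- The position of a coordinate in a six-bit mask. -/
def pos6 : I6 → ℕ
  | .inl (.inl i) => i.val
  | .inl (.inr i) => 2 + i.val
  | .inr i => 4 + i.val

/-- The vector of a six-bit mask. -/
def vec6 (m : ℕ) : I6 → ZMod 2 := fun i => if m.testBit (pos6 i) then 1 else 0

/-- The polar of a mask with a unit vector. -/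
def polarUnit (v : ℕ) (j : I6) : ZMod 2 :=
  q6 (vec6 v + Pi.single j 1) + q6 (vec6 v) + q6 (Pi.single j 1)

/-- The reflection matrix of a mask. -/
def reflM (v : ℕ) : Matrix I6 I6 (ZMod 2) :=
  Matrix.of fun i j => (if i = j then 1 else 0) + vec6 v i * polarUnit v j

/-- The reflection on a mask. -/
def reflN (v x : ℕ) : ℕ :=
  if q6 (vec6 (v ^^^ x)) + q6 (vec6 v) + q6 (vec6 x) = 0 then x else x ^^^ v

/-- The masks used for reflections. -/
def reflList : List ℕ := reflPairs.flatMap fun p => [p.1, p.2]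

theorem refl_ok : ∀ v ∈ reflList, (reflM v * reflM v = 1 ∧
    ∀ m : Fin 64, q6 ((reflM v).mulVec (vec6 m.val)) = q6 (vec6 m.val) ∧
      (reflM v).mulVec (vec6 m.val) = vec6 (reflN v m.val) ∧ reflN v m.val < 64) := by
  decide +kernel

theorem vec6_surj : ∀ u : I6 → ZMod 2, ∃ m : Fin 64, vec6 m.val = u := by decide +kernel

/-- A reflection. -/
def refl (v : ℕ) (hv : v ∈ reflList) : O6 :=
  ⟨⟨reflM v, reflM v, (refl_ok v hv).1, (refl_ok v hv).1⟩, fun u _ => by
    obtain ⟨m, rfl⟩ := vec6_surj u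
    exact ((refl_ok v hv).2 m).1⟩

theorem pair_mem {p : ℕ × ℕ} (hp : p ∈ reflPairs) : p.1 ∈ reflList ∧ p.2 ∈ reflList := by
  constructor <;> exact List.mem_flatMap.2 ⟨p, hp, by simp⟩

/-- The commutator of a pair of reflections. -/
def commElt (p : ℕ × ℕ) (hp : p ∈ reflPairs) : O6 :=
  ⁅refl p.1 (pair_mem hp).1, refl p.2 (pair_mem hp).2⁆

theorem commElt_mem (p : ℕ × ℕ) (hp : p ∈ reflPairs) : commElt p hp ∈ Omega (ZMod 2) q6 :=
  Subgroup.commutator_mem_commutator (Subgroup.mem_top _) (Subgroup.mem_top _)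

/-- The action of an isometry. -/
def appl (g : O6) (u : I6 → ZMod 2) : I6 → ZMod 2 :=
  ((g : Matrix.GeneralLinearGroup I6 (ZMod 2)) : Matrix I6 I6 (ZMod 2)).mulVec u

theorem appl_mul (g h : O6) (u : I6 → ZMod 2) : appl (g * h) u = appl g (appl h u) := by
  simp only [appl, Subgroup.coe_mul, Matrix.GeneralLinearGroup.coe_mul, Matrix.mulVec_mulVec]

theorem appl_one (u : I6 → ZMod 2) : appl 1 u = u := by simp [appl]

theorem refl_inv (v : ℕ) (hv : v ∈ reflList) : (refl v hv)⁻¹ = refl v hv :=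
  Subtype.ext (Units.ext rfl)

/-- The commutator on a mask. -/
def commN (p : ℕ × ℕ) (x : ℕ) : ℕ := reflN p.1 (reflN p.2 (reflN p.1 (reflN p.2 x)))

theorem appl_commElt (p : ℕ × ℕ) (hp : p ∈ reflPairs) {x : ℕ} (hx : x < 64) :
    appl (commElt p hp) (vec6 x) = vec6 (commN p x) ∧ commN p x < 64 := by
  have step : ∀ (v : ℕ) (hv : v ∈ reflList) {y : ℕ}, y < 64 →
      appl (refl v hv) (vec6 y) = vec6 (reflN v y) ∧ reflN v y < 64 := fun v hv y hy =>
    ((refl_ok v hv).2 ⟨y, hy⟩).2
  obtain ⟨h1, l1⟩ := step _ (pair_mem hp).2 hx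
  obtain ⟨h2, l2⟩ := step _ (pair_mem hp).1 l1
  obtain ⟨h3, l3⟩ := step _ (pair_mem hp).2 l2
  obtain ⟨h4, l4⟩ := step _ (pair_mem hp).1 l3
  refine ⟨?_, l4⟩
  rw [commElt, commutatorElement_def, refl_inv, refl_inv, appl_mul, appl_mul, appl_mul, h1, h2, h3, h4]
  rfl

theorem six_check : ∀ r : Fin 2,
    (((List.range (sixOrbits.getD r.val []).length).all fun n => n == 0 ||
      (decide (((sixTrees.getD r.val []).getD n (0, 0)).1 < n) &&
        decide (((sixTrees.getD r.val []).getD n (0, 0)).2 < reflPairs.length) &&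
        (sixOrbits.getD r.val []).getD n 0 ==
          commN (reflPairs.getD ((sixTrees.getD r.val []).getD n (0, 0)).2 (0, 0))
            ((sixOrbits.getD r.val []).getD ((sixTrees.getD r.val []).getD n (0, 0)).1 0))) &&
    ((sixOrbits.getD r.val []).all fun m => decide (m < 64)) &&
    ((List.finRange 6).all fun i => ((sixExpr.getD r.val []).getD i.val []).all fun t =>
      decide (t < (sixOrbits.getD r.val []).length))) = true := by
  decide +kernel

theorem six_cover : ∀ m : Fin 64, m.val = 0 ∨ m.val ∈ sixOrbits.getD 0 [] ∨ m.val ∈ sixOrbits.getD 1 [] := by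
  decide +kernel

theorem six_expr : ∀ r : Fin 2, ∀ i : I6, Pi.single i (1 : ZMod 2) =
    (((sixExpr.getD r.val []).getD (pos6 i) []).map fun t => vec6 ((sixOrbits.getD r.val []).getD t 0)).sum := by
  decide +kernel

theorem pos6_lt : ∀ i : I6, pos6 i < 6 := by decide

theorem vec6_zero : vec6 0 = 0 := funext fun i => by simp [vec6]

/-- The module is irreducible. -/
theorem omega_irreducible (W : Set (I6 → ZMod 2)) (h0 : (0 : I6 → ZMod 2) ∈ W)
    (hadd : ∀ a ∈ W, ∀ b ∈ W, a + b ∈ W) (hinv : ∀ g ∈ Omega (ZMod 2) q6, ∀ a ∈ W, appl g a ∈ W)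
    (hne : ∃ a ∈ W, a ≠ 0) : ∀ a, a ∈ W := by
  obtain ⟨a, ha, ha0⟩ := hne
  obtain ⟨m, rfl⟩ := vec6_surj a
  obtain ⟨r, hr⟩ : ∃ r : Fin 2, m.val ∈ sixOrbits.getD r.val [] := by
    rcases six_cover m with e | e | e
    · exact absurd (by rw [e, vec6_zero]) ha0
    · exact ⟨0, e⟩
    · exact ⟨1, e⟩
  have hc := six_check r
  simp only [Bool.and_eq_true, List.all_eq_true, List.mem_range, Bool.or_eq_true, beq_iff_eq,
    decide_eq_true_eq, List.mem_finRange, forall_const] at hc
  obtain ⟨⟨hstep, hlt⟩, hidx⟩ := hc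
  set O := sixOrbits.getD r.val [] with hO
  have hiff : ∀ n < O.length, (vec6 (O.getD n 0) ∈ W ↔ vec6 (O.getD 0 0) ∈ W) := by
    intro n
    induction n using Nat.strong_induction_on with
    | _ n ih =>
      intro hn
      rcases hstep n hn with e | ⟨⟨hp, hg⟩, he⟩
      · rw [e]
      · set par := ((sixTrees.getD r.val []).getD n (0, 0)).1 with hpar
        set j := ((sixTrees.getD r.val []).getD n (0, 0)).2 with hj
        have hmem : reflPairs.getD j (0, 0) ∈ reflPairs := by
          rw [List.getD_eq_getElem _ _ hg]; exact List.getElem_mem _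
        have hl : O.getD par 0 < 64 := by
          rw [List.getD_eq_getElem _ _ (hp.trans hn)]; exact hlt _ (List.getElem_mem _)
        rw [← ih par hp (hp.trans hn), he, ← (appl_commElt _ hmem hl).1]
        refine ⟨fun h => ?_, hinv _ (commElt_mem _ hmem) _⟩
        have := hinv _ (inv_mem (commElt_mem _ hmem)) _ h
        rwa [← appl_mul, inv_mul_cancel, appl_one] at this
  obtain ⟨n, hn, hnm⟩ := List.getElem_of_mem hr
  have hroot : vec6 (O.getD 0 0) ∈ W := (hiff n hn).1 (by rw [List.getD_eq_getElem _ _ hn, hnm]; exact ha)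
  have hsum : ∀ l : List ℕ, (∀ t ∈ l, t < O.length) → (l.map fun t => vec6 (O.getD t 0)).sum ∈ W := by
    intro l
    induction l with
    | nil => exact fun _ => h0
    | cons t l ih =>
      intro hl
      rw [List.map_cons, List.sum_cons]
      exact hadd _ ((hiff t (hl t (by simp))).2 hroot) _ (ih fun s hs => hl s (by simp [hs]))
  have hunit : ∀ i : I6, (Pi.single i 1 : I6 → ZMod 2) ∈ W := fun i => by
    rw [six_expr r i]
    exact hsum _ (hidx ⟨pos6 i, pos6_lt i⟩)
  intro b
  suffices h : ∀ s : Finset I6, ∑ i ∈ s, (Pi.single i 1 : I6 → ZMod 2) ∈ W by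
    have hb := h (Finset.univ.filter fun i => b i = 1)
    convert hb using 1
    funext k
    rw [Finset.sum_apply]
    simp only [Pi.single_apply, Finset.sum_ite_eq, Finset.mem_filter, Finset.mem_univ, true_and]
    rcases zmod2_cases (b k) with h1 | h1 <;> rw [h1] <;> simp
  intro s
  induction s using Finset.induction_on with
  | empty => simpa using h0
  | insert i s hi ih => rw [Finset.sum_insert hi]; exact hadd _ (hunit i) _ ih

/-! ### Order and simplicity -/

theorem index_two_eq_omega {H : Subgroup O6} (hH : H.index = 2) :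
    H = Omega (ZMod 2) q6 ∧ IsSimpleGroup (Omega (ZMod 2) q6) := by
  classical
  haveI : H.Normal := Subgroup.normal_of_index_eq_two hH
  haveI : Fact (Nat.Prime 2) := ⟨Nat.prime_two⟩
  have hle : Omega (ZMod 2) q6 ≤ H := by
    have hc : Nat.card (O6 ⧸ H) = 2 := hH
    haveI := isCyclic_of_prime_card (p := 2) hc
    letI := IsCyclic.commGroup (α := O6 ⧸ H)
    exact (Abelianization.commutator_subset_ker (QuotientGroup.mk' H)).trans (QuotientGroup.ker_mk' _).le
  obtain ⟨e⟩ := Lib.Classical.LowRank.nonempty_POmega_minus_six (K := Lib.Golay.Quad) (q := 2)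
    (ZMod.card 2) Lib.UFourTwo.hq 1 1 FischerType.aniso_two
  haveI : IsSimpleGroup (Cfsg.PSU 4 Lib.Golay.Quad 2) :=
    Lib.Classical.isSimpleGroup_PSU Lib.UFourTwo.hq 2 (by norm_num) (by norm_num)
  haveI : IsSimpleGroup (POmega (ZMod 2) q6) := e.isSimpleGroup
  have hcardP : Nat.card (POmega (ZMod 2) q6) = 25920 := by
    rw [Nat.card_congr e.toEquiv]; exact Lib.UFourTwo.natCard_psu
  have hHc : Nat.card H = 25920 := by
    have h := H.card_mul_index
    rw [hH, FischerType.card_Qm] at h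
    omega
  have hO := (Subgroup.center (Omega (ZMod 2) q6)).card_eq_card_quotient_mul_card_subgroup
  rw [show Nat.card (Omega (ZMod 2) q6 ⧸ Subgroup.center (Omega (ZMod 2) q6)) = 25920 from hcardP] at hO
  have hle' : Nat.card (Omega (ZMod 2) q6) ≤ 25920 := hHc ▸ Subgroup.card_le_of_le hle
  have hpos : 0 < Nat.card (Subgroup.center (Omega (ZMod 2) q6)) := Nat.card_pos
  have h1 : Nat.card (Subgroup.center (Omega (ZMod 2) q6)) = 1 := by nlinarith
  refine ⟨(Subgroup.eq_of_le_of_card_ge hle (by rw [hHc, hO, h1])).symm, ?_⟩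
  exact ((QuotientGroup.quotientMulEquivOfEq (Subgroup.card_eq_one.1 h1)).trans
    QuotientGroup.quotientBot).symm.isSimpleGroup

end Cfsg.Agent.Lib.Leech.Suz
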