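import Cfsg.Agent.Lib.Leech.Suz.Image
import Cfsg.Agent.Lib.Leech.Suz.Irred

/-!
The centraliser of the element of order three inside the stabiliser of the octad sign change acts on
the fixed part of the core as the commutator subgroup of the minus isometry group in dimension six.
-/

set_option autoImplicit false
set_option linter.style.haveILetI false

namespace Cfsg.Agent.Lib.Leech.Suz

open Cfsg
open Cfsg.Agent.Lib
open Cfsg.Agent.Lib.Leech.Co1TwoA

/-- The map to the centraliser in `Co₁`. -/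
noncomputable def thT : T →* centZ := theta.comp T.subtype

theorem thT_comm (g : T) : thT g * aZ = aZ * thT g := by
  show theta g.1 * theta aS = theta aS * theta g.1
  rw [← map_mul, ← map_mul, mem_T.1 g.2]

theorem conjQ_inv_cancel (c : centZ) (x : bigQ) : conjQ c⁻¹ (conjQ c x) = x := by
  rw [conjQ_conjQ, inv_mul_cancel, conjQ_one_left]

theorem conjQ_injective (c : centZ) : Function.Injective (conjQ c) :=
  Function.LeftInverse.injective (conjQ_inv_cancel c)

theorem cbit_conj (c : centZ) (x y : bigQ) : cbit (conjQ c x) (conjQ c y) = cbit x y := by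
  unfold cbit
  refine if_congr ?_ rfl rfl
  rw [← conjQ_mul, ← conjQ_mul]
  exact (conjQ_injective c).eq_iff

theorem sbit_conj (c : centZ) (x : bigQ) : sbit (conjQ c x) = sbit x := by
  unfold sbit
  refine if_congr ?_ rfl rfl
  rw [← conjQ_mul]
  exact ⟨fun h => conjQ_injective c (h.trans (conjQ_one c).symm), fun h => by rw [h, conjQ_one]⟩

/-- The fixed part of the core. -/
noncomputable def QA : Subgroup bigQ where
  carrier := {x | ∀ i : Fin 2, kap x (.inr i) = 0}
  one_mem' := fun i => by rw [kap_one]; rfl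
  mul_mem' := fun {x y} hx hy i => by rw [kap_mul, Pi.add_apply, hx i, hy i, add_zero]
  inv_mem' := fun {x} hx i => by rw [kap_inv]; exact hx i

theorem mem_QA {x : bigQ} : x ∈ QA ↔ ∀ i : Fin 2, kap x (.inr i) = 0 := Iff.rfl

theorem mem_QA_iff_fixed {x : bigQ} : x ∈ QA ↔ conjQ aZ x = x := (conjQ_aZ_eq_iff x).symm

theorem vQ_inl_mem (j : I6) : vQ (.inl j) ∈ QA := fun i => by rw [kap_vQ]; simp

theorem conjQ_mem_QA (g : T) {x : bigQ} (hx : x ∈ QA) : conjQ (thT g) x ∈ QA := by
  rw [mem_QA_iff_fixed] at hx ⊢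
  rw [conjQ_conjQ, ← thT_comm, ← conjQ_conjQ, hx]

/-- The six coordinates. -/
noncomputable def kap6 (x : bigQ) : I6 → ZMod 2 := fun i => kap x (.inl i)

theorem kap_eq_elim {x : bigQ} (hx : x ∈ QA) : kap x = Sum.elim (kap6 x) 0 := by
  funext k
  rcases k with k | k
  · rfl
  · exact hx k

theorem exists_QA (u : I6 → ZMod 2) : ∃ x ∈ QA, kap6 x = u := by
  obtain ⟨x, hx⟩ := kap_surjective (Sum.elim u 0)
  exact ⟨x, fun i => by rw [hx]; rfl, funext fun i => by show kap x (.inl i) = u i; rw [hx]; rfl⟩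

theorem sbit_eq_q6 {x : bigQ} (hx : x ∈ QA) : sbit x = q6 (kap6 x) := by
  rw [sbit_eq, q8, hx 0, hx 1]
  show q6 (kap6 x) + _ = _
  simp

/-! ### The matrices -/

/-- The matrix of a conjugation. -/
noncomputable def mat8 (c : centZ) : Matrix J8 J8 (ZMod 2) := Matrix.of fun i j => kap (conjQ c (vQ j)) i

theorem kap_conj (c : centZ) (x : bigQ) : kap (conjQ c x) = (mat8 c).mulVec (kap x) := by
  induction x using bigQ_induction with
  | h1 => rw [conjQ_one, kap_one, Matrix.mulVec_zero]
  | hz y hy => rw [conjQ_mul, conjQ_zQ, kap_mul, kap_mul, kap_zQ, zero_add, zero_add, hy]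
  | hv j y hy =>
    rw [conjQ_mul, kap_mul, kap_mul, Matrix.mulVec_add, hy, kap_vQ]
    congr 1
    funext i
    rw [Matrix.mulVec_single_one]
    rfl

/-- The matrix of an element on the fixed part. -/
noncomputable def mat6 (g : T) : Matrix I6 I6 (ZMod 2) := (mat8 (thT g)).submatrix Sum.inl Sum.inl

theorem mat6_apply (g : T) (i j : I6) : mat6 g i j = kap6 (conjQ (thT g) (vQ (.inl j))) i := rfl

theorem kap6_conj (g : T) {x : bigQ} (hx : x ∈ QA) :
    kap6 (conjQ (thT g) x) = (mat6 g).mulVec (kap6 x) := by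
  funext i
  show kap (conjQ (thT g) x) (.inl i) = _
  rw [kap_conj]
  simp only [Matrix.mulVec, dotProduct]
  rw [Fintype.sum_sum_type]
  have h0 : ∑ k : Fin 2, mat8 (thT g) (.inl i) (.inr k) * kap x (.inr k) = 0 :=
    Finset.sum_eq_zero fun k _ => by rw [hx k, mul_zero]
  rw [h0, add_zero]
  rfl

theorem mat6_mul (g h : T) : mat6 (g * h) = mat6 g * mat6 h := by
  ext i j
  rw [mat6_apply, map_mul, ← conjQ_conjQ, kap6_conj g (conjQ_mem_QA h (vQ_inl_mem j))]
  rfl

theorem mat6_one : mat6 1 = 1 := by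
  ext i j
  rw [mat6_apply, map_one, conjQ_one_left, kap6, kap_vQ]
  simp [Pi.single_apply, Matrix.one_apply]

/-- The matrices as a homomorphism. -/
noncomputable def matHom6 : T →* Matrix I6 I6 (ZMod 2) where
  toFun := mat6
  map_one' := mat6_one
  map_mul' := mat6_mul

theorem rho6_mem (g : T) : matHom6.toHomUnits g ∈ O6 := by
  intro u _
  obtain ⟨x, hx, rfl⟩ := exists_QA u
  show q6 ((mat6 g).mulVec (kap6 x)) = q6 (kap6 x)
  rw [← kap6_conj g hx, ← sbit_eq_q6 (conjQ_mem_QA g hx), sbit_conj, sbit_eq_q6 hx]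

/-- The representation on the fixed part. -/
noncomputable def rho6 : T →* O6 := matHom6.toHomUnits.codRestrict _ rho6_mem

theorem appl_rho6 (g : T) (u : I6 → ZMod 2) : appl (rho6 g) u = (mat6 g).mulVec u := rfl

theorem rho6_eq_one_iff {g : T} : rho6 g = 1 ↔ mat6 g = 1 :=
  ⟨fun h => congrArg (fun e : O6 => ((e : Matrix.GeneralLinearGroup I6 (ZMod 2)) : Matrix I6 I6 (ZMod 2))) h,
    fun h => Subtype.ext (Units.ext h)⟩

theorem rho6_eq_one_of {g : T} (h : ∀ x ∈ QA, kap6 (conjQ (thT g) x) = kap6 x) : rho6 g = 1 := by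
  rw [rho6_eq_one_iff]
  ext i j
  rw [mat6_apply, h _ (vQ_inl_mem j), kap6, kap_vQ]
  simp [Pi.single_apply, Matrix.one_apply]

/-! ### The kernel -/

/-- The element of order three in `T`. -/
noncomputable def aT : T := ⟨aS, mem_T.2 rfl⟩

theorem aT_cube : aT * aT * aT = 1 := Subtype.ext aS_cube

/-- The elements of `T` trivial on the sublattice modulo two. -/
noncomputable def KT : Subgroup T := (rhoO.comp T.subtype).ker

instance : KT.Normal := MonoidHom.normal_ker _

theorem mem_KT {g : T} : g ∈ KT ↔ rhoO g.1 = 1 := MonoidHom.mem_ker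

theorem mem_KT_iff_bigQ {g : T} : g ∈ KT ↔ thT g ∈ bigQ := by
  rw [mem_KT, ker_iff]; exact mem_bigQ.symm

/-- The map to the core. -/
noncomputable def phK : KT →* bigQ where
  toFun g := ⟨thT g.1, mem_KT_iff_bigQ.1 g.2⟩
  map_one' := Subtype.ext (map_one thT)
  map_mul' g h := Subtype.ext (map_mul thT g.1 h.1)

theorem phK_val (g : KT) : (phK g : centZ) = thT g.1 := rfl

theorem phK_mem (g : KT) : phK g ∈ QA := by
  rw [mem_QA_iff_fixed]
  refine Subtype.ext ?_
  show aZ * thT g.1 * aZ⁻¹ = thT g.1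
  rw [← thT_comm, mul_inv_cancel_right]

theorem eq_or_neg_of_theta {g h : stab} (e : theta g = theta h) : (g : Co0) = h ∨ (g : Co0) = negCo * h :=
  eq_or_eq_neg (congrArg Subtype.val e)

theorem aS_pow_cube : (aS : Co0) * aS * aS = 1 := congrArg Subtype.val aS_cube

theorem comm_aS_of_theta {g : stab} (h : theta g * aZ = aZ * theta g) : g ∈ T := by
  rw [mem_T]
  rw [aZ, ← map_mul, ← map_mul] at h
  rcases eq_or_neg_of_theta h with e | e
  · exact Subtype.ext e
  · exfalso
    refine negCo_ne_one ?_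
    have hn : ∀ x : Co0, x * negCo = negCo * x := fun x => Subgroup.mem_center_iff.1 negCo_mem_center x
    have e' : (g : Co0) * aS * (g : Co0)⁻¹ = negCo * (aS : Co0) := by
      rw [Subgroup.coe_mul, Subgroup.coe_mul] at e
      rw [e]; group
    have h3 : ((g : Co0) * aS * (g : Co0)⁻¹) * ((g : Co0) * aS * (g : Co0)⁻¹) * ((g : Co0) * aS * (g : Co0)⁻¹) = 1 := by
      calc _ = (g : Co0) * ((aS : Co0) * aS * aS) * (g : Co0)⁻¹ := by group
        _ = 1 := by rw [aS_pow_cube]; group
    rw [e'] at h3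
    calc negCo = negCo * (negCo * negCo) * ((aS : Co0) * aS * aS) := by
          rw [negCo_sq, aS_pow_cube, mul_one, mul_one]
      _ = negCo * aS * (negCo * aS) * (negCo * aS) := by
          have c : ∀ x y : Co0, x * (negCo * y) = negCo * (x * y) := fun x y => by
            rw [← mul_assoc, hn x, mul_assoc]
          simp only [mul_assoc, c]
      _ = 1 := h3

theorem exists_phK {x : bigQ} (hx : x ∈ QA) : ∃ g : KT, phK g = x := by
  obtain ⟨g, hg⟩ := theta_surjective x.1
  have hc : theta g * aZ = aZ * theta g := by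
    have h := congrArg Subtype.val (mem_QA_iff_fixed.1 hx)
    rw [hg]
    exact (mul_inv_eq_iff_eq_mul.1 h).symm
  refine ⟨⟨⟨g, comm_aS_of_theta hc⟩, mem_KT_iff_bigQ.2 ?_⟩, Subtype.ext hg⟩
  show theta g ∈ bigQ
  rw [hg]
  exact x.2

/-- `-1` in the centraliser. -/
noncomputable def nT : T := ⟨⟨negCo, negCo_mem_stab⟩,
  mem_T.2 (Subtype.ext (Subgroup.mem_center_iff.1 negCo_mem_center _).symm)⟩

theorem thT_nT : thT nT = 1 := Subtype.ext ((QuotientGroup.eq_one_iff _).2 negCo_mem_center)

theorem thT_eq_one {g : T} (h : thT g = 1) : g = 1 ∨ g = nT := by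
  rcases center_cases ((QuotientGroup.eq_one_iff _).1 (congrArg Subtype.val h)) with e | e
  · exact Or.inl (Subtype.ext (Subtype.ext e))
  · exact Or.inr (Subtype.ext (Subtype.ext e))

theorem nT_mem_KT : nT ∈ KT := mem_KT.2 rhoO_negCo

theorem nT_ne_one : nT ≠ 1 := fun h => negCo_ne_one (congrArg (fun g : T => ((g : stab) : Co0)) h)

theorem card_phK_ker : Nat.card phK.ker = 2 := by
  refine Nat.card_eq_two_iff.2 ⟨1, ⟨⟨nT, nT_mem_KT⟩, Subtype.ext thT_nT⟩, fun h => nT_ne_one ?_, ?_⟩
  · exact (congrArg (fun g : phK.ker => (g.1.1 : T)) h).symm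
  · refine Set.eq_univ_of_forall fun g => ?_
    rcases thT_eq_one (congrArg Subtype.val (MonoidHom.mem_ker.1 g.2) : thT g.1.1 = 1) with e | e
    · exact Or.inl (Subtype.ext (Subtype.ext e))
    · exact Or.inr (Subtype.ext (Subtype.ext e))

theorem card_QA : Nat.card QA = 128 := by
  haveI := finite_co0
  let f : QA →* Multiplicative (I6 → ZMod 2) :=
    { toFun := fun x => Multiplicative.ofAdd (kap6 x.1)
      map_one' := by
        show Multiplicative.ofAdd (kap6 1) = 1
        rw [show kap6 1 = 0 from funext fun i => congrFun kap_one _]; rfl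
      map_mul' := fun x y => by
        show Multiplicative.ofAdd (kap6 (x.1 * y.1)) = _
        rw [show kap6 (x.1 * y.1) = kap6 x.1 + kap6 y.1 from funext fun i => congrFun (kap_mul _ _) _]; rfl }
  have hsur : Function.Surjective f := fun e => by
    obtain ⟨x, hx, hx'⟩ := exists_QA (Multiplicative.toAdd e)
    exact ⟨⟨x, hx⟩, Multiplicative.toAdd.injective hx'⟩
  have hk : Nat.card f.ker = 2 := by
    refine Eq.trans ?_ card_kapKer
    refine Nat.card_eq_of_bijective
      (fun x => ⟨x.1.1, ?_⟩) ⟨fun a b h => Subtype.ext (Subtype.ext (congrArg (fun y : kapHom.ker => y.1) h)),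
        fun y => ⟨⟨⟨y.1, ?_⟩, ?_⟩, rfl⟩⟩
    · show Multiplicative.ofAdd (kap x.1.1) = 1
      have h6 : kap6 x.1.1 = 0 := congrArg Multiplicative.toAdd (MonoidHom.mem_ker.1 x.2)
      rw [kap_eq_elim x.1.2, h6]
      exact congrArg Multiplicative.ofAdd (funext fun k => by rcases k with k | k <;> rfl)
    · intro i
      have h8 : kap y.1 = 0 := congrArg Multiplicative.toAdd (MonoidHom.mem_ker.1 y.2)
      rw [h8]; rfl
    · have h8 : kap y.1 = 0 := congrArg Multiplicative.toAdd (MonoidHom.mem_ker.1 y.2)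
      show Multiplicative.ofAdd (kap6 y.1) = 1
      rw [show kap6 y.1 = 0 from funext fun i => congrFun h8 _]; rfl
  have h := f.ker.card_eq_card_quotient_mul_card_subgroup
  rw [Nat.card_congr (QuotientGroup.quotientKerEquivOfSurjective f hsur).toEquiv, hk,
    show Nat.card (Multiplicative (I6 → ZMod 2)) = 64 by
      rw [Nat.card_congr Multiplicative.toAdd, Nat.card_eq_fintype_card, Fintype.card_fun]; simp [ZMod.card]] at h
  omega

theorem phK_range : phK.range = QA := by
  ext x
  exact ⟨fun ⟨g, hg⟩ => hg ▸ phK_mem g, exists_phK⟩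

theorem card_KT : Nat.card KT = 256 := by
  haveI := finite_co0
  have h := phK.ker.card_eq_card_quotient_mul_card_subgroup
  rw [Nat.card_congr (QuotientGroup.quotientKerEquivRange phK).toEquiv, phK_range, card_QA,
    card_phK_ker] at h
  omega

theorem card_T : Nat.card T = 77760 * 256 := by
  haveI := finite_co0
  set f : T →* Equiv.Perm V8 := permV.comp T.subtype with hf
  have hk : f.ker = KT := by
    ext g
    rw [MonoidHom.mem_ker, mem_KT]
    exact permV_eq_one_iff
  have hr : f.range = H0 := by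
    rw [hf, MonoidHom.range_comp, Subgroup.range_subtype]; rfl
  have h := f.ker.card_eq_card_quotient_mul_card_subgroup
  rw [Nat.card_congr (QuotientGroup.quotientKerEquivRange f).toEquiv, hr, card_H0, hk, card_KT] at h
  exact h

theorem rot_cases : ∀ e : J8 → ZMod 2, (∀ i, e (.inl i) = 0) → e ≠ 0 →
    e = Pi.single (.inr 0) 1 ∨ rot e = Pi.single (.inr 0) 1 ∨ rot (rot e) = Pi.single (.inr 0) 1 := by
  decide +kernel

theorem rot_single : rot (Pi.single (.inr 0) 1) = Pi.single (.inr 1) 1 := by decide +kernel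

theorem flip8_inl : ∀ i : I6, ∃ k : I6, flip8 (.inl i) = .inl k := by decide

theorem thT_aT : thT aT = aZ := rfl

theorem rho6_aT : rho6 aT = 1 := rho6_eq_one_of fun x hx => by
  rw [thT_aT, mem_QA_iff_fixed.1 hx]

theorem kap_conj_of_mem {c : centZ} (hc : c ∈ bigQ) (x : bigQ) : kap (conjQ c x) = kap x := by
  have e : conjQ c x = (⟨c, hc⟩ : bigQ) * x * (⟨c, hc⟩ : bigQ)⁻¹ := rfl
  rw [e, kap_mul, kap_mul, kap_inv]
  funext j
  simp only [Pi.add_apply]
  rw [add_comm, ← add_assoc, CharTwo.add_self_eq_zero, zero_add]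

theorem rho6_KT {g : T} (hg : g ∈ KT) : rho6 g = 1 := rho6_eq_one_of fun x _ => by
  funext i
  exact congrFun (kap_conj_of_mem (mem_KT_iff_bigQ.1 hg) x) _

/-- An element trivial on the fixed part and fixing one further vector is in the kernel. -/
theorem mem_KT_of_trivial {g : T} (h6 : rho6 g = 1)
    (ha : kap (conjQ (thT g) (vQ (.inr 0))) = Pi.single (.inr 0) 1) : g ∈ KT := by
  set c := thT g with hc
  have hb : kap (conjQ c (conjQ aZ (vQ (.inr 0)))) = kap (conjQ aZ (vQ (.inr 0))) := by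
    rw [conjQ_conjQ, hc, thT_comm, ← conjQ_conjQ, ← hc, kap_conj_aZ, kap_conj_aZ, ha, kap_vQ]
  have hgen : ∀ j, kap (conjQ c (vQ j)) = kap (vQ j) := by
    intro j
    rcases j with j | j
    · rw [kap_eq_elim (conjQ_mem_QA g (vQ_inl_mem j)), kap_eq_elim (vQ_inl_mem j),
        kap6_conj g (vQ_inl_mem j), rho6_eq_one_iff.1 h6, Matrix.one_mulVec]
    · fin_cases j
      · rw [kap_vQ]; exact ha
      · rw [kap_conj c, kap_conj_aZ, kap_vQ, rot_single] at hb
        rw [kap_conj c, kap_vQ]
        exact hb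
  let d : J8 → ZMod 2 := fun j => if conjQ c (vQ j) = vQ j then 0 else 1
  obtain ⟨q, hq⟩ := kap_surjective fun k => d (flip8 k)
  have hqv : ∀ j, conjQ c (vQ j) = conjQ (q : centZ) (vQ j) := by
    intro j
    have e : conjQ (q : centZ) (vQ j) = (if cbit q (vQ j) = 0 then 1 else zQ) * vQ j := by
      show q * vQ j * q⁻¹ = _
      rw [show q * vQ j = _ from cbit_spec q (vQ j), mul_assoc, mul_assoc, mul_inv_cancel, mul_one]
    have e2 : cbit q (vQ j) = d j := by
      have := congrFun hq (flip8 j)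
      rwa [kap, flip8_flip8] at this
    rw [e, e2]
    rcases eq_or_of_kap_eq (hgen j) with h | h
    · rw [show d j = 0 from if_pos h, if_pos rfl, one_mul, h]
    · by_cases h' : conjQ c (vQ j) = vQ j
      · rw [show d j = 0 from if_pos h', if_pos rfl, one_mul, h']
      · rw [show d j = 1 from if_neg h', if_neg (by decide), h]
  have hall : ∀ x : bigQ, conjQ c x = conjQ (q : centZ) x := by
    intro x
    induction x using bigQ_induction with
    | h1 => rw [conjQ_one, conjQ_one]
    | hz y hy => rw [conjQ_mul, conjQ_mul, conjQ_zQ, conjQ_zQ, hy]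
    | hv j y hy => rw [conjQ_mul, conjQ_mul, hqv, hy]
  rw [mem_KT_iff_bigQ, ← hc]
  have hmem : (q : centZ)⁻¹ * c ∈ bigQ := by
    refine centralizer_bigQ_le (Subgroup.mem_centralizer_iff.2 fun y hy => ?_)
    have := congrArg (conjQ (q : centZ)⁻¹) (hall ⟨y, hy⟩)
    rw [conjQ_inv_cancel, conjQ_conjQ] at this
    exact (mul_inv_eq_iff_eq_mul.1 (congrArg Subtype.val this)).symm
  have := mul_mem q.2 hmem
  rwa [mul_inv_cancel_left] at this

/-- The kernel of the representation. -/
theorem rho6_ker_cases {g : T} (h6 : rho6 g = 1) : ∃ i : ℕ, i < 3 ∧ aT ^ i * g ∈ KT := by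
  set e := kap (conjQ (thT g) (vQ (.inr 0))) with he
  have hinl : ∀ i, e (.inl i) = 0 := by
    intro i
    obtain ⟨k, hk⟩ := flip8_inl i
    show cbit (conjQ (thT g) (vQ (.inr 0))) (vQ (flip8 (.inl i))) = 0
    rw [hk]
    have h1 : vQ (.inl k) = conjQ (thT g) (conjQ (thT g)⁻¹ (vQ (.inl k))) := by
      rw [conjQ_conjQ, mul_inv_cancel, conjQ_one_left]
    rw [h1, cbit_conj, cbit_symm]
    have hm := conjQ_mem_QA g⁻¹ (vQ_inl_mem k)
    rw [map_inv] at hm
    exact hm 1
  have hne : e ≠ 0 := by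
    intro h0
    have h2 := kap_conj (thT g)⁻¹ (conjQ (thT g) (vQ (.inr 0)))
    rw [conjQ_inv_cancel, ← he, h0, Matrix.mulVec_zero, kap_vQ] at h2
    simpa using congrFun h2 (.inr 0)
  have hstep : ∀ h : T, kap (conjQ (thT (aT * h)) (vQ (.inr 0))) = rot (kap (conjQ (thT h) (vQ (.inr 0)))) :=
    fun h => by rw [map_mul, ← conjQ_conjQ, thT_aT, kap_conj_aZ]
  have h6' : ∀ i : ℕ, rho6 (aT ^ i * g) = 1 := fun i => by
    rw [map_mul, map_pow, rho6_aT, one_pow, h6, one_mul]
  rcases rot_cases e hinl hne with h | h | h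
  · exact ⟨0, by norm_num, mem_KT_of_trivial (h6' 0) (by rw [pow_zero, one_mul]; exact h)⟩
  · exact ⟨1, by norm_num, mem_KT_of_trivial (h6' 1) (by rw [pow_one, hstep]; exact h)⟩
  · exact ⟨2, by norm_num, mem_KT_of_trivial (h6' 2) (by rw [sq, mul_assoc, hstep, hstep]; exact h)⟩

theorem aCols_moves : ∃ m : Fin 256, vecOfMask (ap8 aCols m.val) ≠ vecOfMask m.val := by decide +kernel

theorem permV_aS_ne : permV aS ≠ 1 := by
  intro h
  obtain ⟨m, hm⟩ := aCols_moves
  exact hm ((aV_mask m.isLt).symm.trans (congrArg (fun p : Equiv.Perm V8 => p (vecOfMask m.val)) h))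

theorem orderOf_permV_aS : orderOf (permV aS) = 3 := by
  haveI : Fact (Nat.Prime 3) := ⟨Nat.prime_three⟩
  refine orderOf_eq_prime ?_ permV_aS_ne
  rw [pow_succ, pow_succ, pow_one, ← map_mul, ← map_mul, aS_cube, map_one]

theorem card_rho6_ker : Nat.card rho6.ker = 768 := by
  haveI := finite_co0
  let f : rho6.ker →* Equiv.Perm V8 := (permV.comp T.subtype).comp rho6.ker.subtype
  have hr : f.range = Subgroup.zpowers (permV aS) := by
    refine le_antisymm ?_ (Subgroup.zpowers_le.2 ⟨⟨aT, MonoidHom.mem_ker.2 rho6_aT⟩, rfl⟩)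
    rintro _ ⟨⟨g, hg⟩, rfl⟩
    obtain ⟨i, -, hi⟩ := rho6_ker_cases (MonoidHom.mem_ker.1 hg)
    have h1 : permV ((aT ^ i * g : T) : stab) = 1 := permV_eq_one_iff.2 (mem_KT.1 hi)
    rw [Subgroup.coe_mul, map_mul, SubgroupClass.coe_pow, map_pow] at h1
    show permV (g : stab) ∈ _
    rw [← inv_eq_of_mul_eq_one_right h1]
    exact inv_mem (pow_mem (Subgroup.mem_zpowers _) i)
  have hk : Nat.card f.ker = 256 := by
    rw [← card_KT]
    refine Nat.card_eq_of_bijective (fun g => ⟨g.1.1, mem_KT.2 (permV_eq_one_iff.1 (MonoidHom.mem_ker.1 g.2))⟩)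
      ⟨fun a b h => Subtype.ext (Subtype.ext (congrArg (fun y : KT => y.1) h)),
        fun g => ⟨⟨⟨g.1, MonoidHom.mem_ker.2 (rho6_KT g.2)⟩,
          MonoidHom.mem_ker.2 (permV_eq_one_iff.2 (mem_KT.1 g.2))⟩, rfl⟩⟩
  have h := f.ker.card_eq_card_quotient_mul_card_subgroup
  rw [Nat.card_congr (QuotientGroup.quotientKerEquivRange f).toEquiv, hr, Nat.card_zpowers,
    orderOf_permV_aS, hk] at h
  exact h

theorem rho6_range : rho6.range = Omega (ZMod 2) q6 ∧ IsSimpleGroup (Omega (ZMod 2) q6) := by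
  haveI := finite_co0
  refine index_two_eq_omega ?_
  have h := rho6.ker.card_eq_card_quotient_mul_card_subgroup
  rw [Nat.card_congr (QuotientGroup.quotientKerEquivRange rho6).toEquiv, card_T, card_rho6_ker] at h
  have h2 := rho6.range.card_mul_index
  have h3 : Nat.card rho6.range = 25920 := by omega
  rw [h3, FischerType.card_Qm] at h2
  omega

end Cfsg.Agent.Lib.Leech.Suz
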