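import Cfsg.Agent.Lib.Leech.Suz.Words

/-!
Data for an element of order three without fixed points commuting with the octad sign change: a basis
of the symplectic space, generators of the centraliser and a stabiliser chain on eight bits.
-/

set_option autoImplicit false

namespace Cfsg.Agent.Lib.Leech.Suz

/-- The word of the element of order three. -/
def aWord : List Step :=
  [.x, .m [0, 2, 23, 12, 10, 8, 6, 21, 5, 16, 13, 3, 17, 15, 11, 22, 9, 18, 14, 7, 4, 19, 20, 1] 14089310, .x, .m [0, 2, 23, 12, 10, 8, 6, 21, 5, 16, 13, 3, 17, 15, 11, 22, 9, 18, 14, 7, 4, 19, 20, 1] 14089310]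

/-- The word of `-1`. -/
def negWord : List Step :=
  [.m [0, 1, 2, 3, 4, 5, 6, 7, 8, 9, 10, 11, 12, 13, 14, 15, 16, 17, 18, 19, 20, 21, 22, 23] 16777215]

/-- The word of the sign change. -/
def zWord : List Step :=
  [.m [0, 1, 2, 3, 4, 5, 6, 7, 8, 9, 10, 11, 12, 13, 14, 15, 16, 17, 18, 19, 20, 21, 22, 23] 416040]

/-- The basis of the core, as permutations and masks. -/
def vData : List (List ℕ × ℕ) :=
  [([0, 1, 2, 3, 4, 5, 6, 7, 8, 9, 10, 11, 12, 13, 14, 15, 16, 17, 18, 19, 20, 21, 22, 23], 3704512),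
   ([0, 1, 2, 3, 4, 5, 6, 7, 8, 9, 10, 11, 12, 13, 14, 15, 16, 17, 18, 19, 20, 21, 22, 23], 5350928),
   ([6, 19, 7, 3, 15, 5, 0, 2, 8, 16, 22, 11, 12, 20, 14, 4, 9, 17, 18, 1, 13, 23, 10, 21], 0),
   ([4, 22, 16, 3, 0, 5, 15, 9, 8, 7, 19, 11, 12, 23, 14, 6, 2, 17, 18, 10, 21, 20, 1, 13], 4752467),
   ([1, 0, 23, 3, 22, 5, 19, 21, 8, 20, 15, 11, 12, 16, 14, 10, 13, 17, 18, 6, 9, 7, 4, 2], 4785798),
   ([2, 23, 0, 3, 16, 5, 7, 6, 8, 15, 20, 11, 12, 22, 14, 9, 4, 17, 18, 21, 10, 19, 13, 1], 1647171),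
   ([1, 0, 23, 3, 22, 5, 19, 21, 8, 20, 15, 11, 12, 16, 14, 10, 13, 17, 18, 6, 9, 7, 4, 2], 99029),
   ([2, 23, 0, 3, 16, 5, 7, 6, 8, 15, 20, 11, 12, 22, 14, 9, 4, 17, 18, 21, 10, 19, 13, 1], 14747201)]

/-- The images of the basis under the element of order three, with signs. -/
def imgData : List (List ℕ × ℕ × Bool) :=
  [([0, 1, 2, 3, 4, 5, 6, 7, 8, 9, 10, 11, 12, 13, 14, 15, 16, 17, 18, 19, 20, 21, 22, 23], 3704512, false),
   ([0, 1, 2, 3, 4, 5, 6, 7, 8, 9, 10, 11, 12, 13, 14, 15, 16, 17, 18, 19, 20, 21, 22, 23], 5350928, false),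
   ([6, 19, 7, 3, 15, 5, 0, 2, 8, 16, 22, 11, 12, 20, 14, 4, 9, 17, 18, 1, 13, 23, 10, 21], 0, false),
   ([4, 22, 16, 3, 0, 5, 15, 9, 8, 7, 19, 11, 12, 23, 14, 6, 2, 17, 18, 10, 21, 20, 1, 13], 4752467, false),
   ([1, 0, 23, 3, 22, 5, 19, 21, 8, 20, 15, 11, 12, 16, 14, 10, 13, 17, 18, 6, 9, 7, 4, 2], 4785798, false),
   ([2, 23, 0, 3, 16, 5, 7, 6, 8, 15, 20, 11, 12, 22, 14, 9, 4, 17, 18, 21, 10, 19, 13, 1], 1647171, false),
   ([2, 23, 0, 3, 16, 5, 7, 6, 8, 15, 20, 11, 12, 22, 14, 9, 4, 17, 18, 21, 10, 19, 13, 1], 14747201, false),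
   ([23, 2, 1, 3, 13, 5, 21, 19, 8, 10, 9, 11, 12, 4, 14, 20, 22, 17, 18, 7, 15, 6, 16, 0], 1647171, false)]

/-- The words of four generators of the centraliser. -/
def genWords : List (List Step) :=
  [[.m [10, 20, 9, 11, 23, 18, 13, 4, 5, 7, 21, 3, 17, 2, 12, 19, 0, 8, 14, 22, 6, 16, 1, 15] 4819776],
   [.m [10, 15, 20, 3, 23, 14, 7, 6, 8, 16, 22, 18, 11, 0, 17, 4, 1, 5, 12, 21, 13, 19, 2, 9] 1989958],
   [.m [0, 1, 2, 3, 4, 5, 6, 7, 8, 9, 10, 11, 12, 13, 14, 15, 16, 17, 18, 19, 20, 21, 22, 23] 6857221, .x, .m [7, 19, 21, 17, 22, 3, 10, 15, 12, 23, 1, 18, 8, 13, 14, 2, 4, 5, 11, 9, 0, 20, 16, 6] 12985424],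
   [.m [16, 19, 4, 11, 20, 17, 15, 9, 14, 13, 7, 5, 18, 2, 3, 22, 10, 8, 12, 23, 6, 1, 0, 21] 12538184, .x, .m [4, 13, 6, 17, 0, 12, 22, 19, 8, 10, 2, 18, 3, 20, 5, 1, 15, 11, 14, 16, 9, 7, 23, 21] 12415695]]

/-- A word moving the sign change. -/
def moveWord : List Step :=
  [.m [13, 16, 22, 6, 1, 21, 18, 11, 20, 3, 5, 15, 10, 2, 7, 14, 23, 19, 9, 8, 17, 12, 0, 4] 13553934, .x, .m [0, 1, 2, 3, 4, 5, 6, 7, 8, 9, 10, 11, 12, 13, 14, 15, 16, 17, 18, 19, 20, 21, 22, 23] 6857221]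

/-- The mask of the moved sign change. -/
def moveMask : ℕ :=
  3704512

/-- The columns of the element of order three on eight bits. -/
def aCols : List ℕ :=
  [110, 93, 60, 7, 186, 185, 176, 243]

/-- The columns of the generators on eight bits. -/
def genCols : List (List ℕ) :=
  [[1, 64, 11, 160, 155, 4, 129, 2], [1, 10, 225, 74, 243, 204, 3, 12], [111, 88, 249, 235, 64, 123, 48, 56], [206, 115, 205, 195, 217, 193, 153, 56]]

/-- The base of the chain. -/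
def basePts : List ℕ :=
  [17, 21, 23, 27]

/-- The generators of each level, as words in the generators. -/
def levelGens : List (List (List ℕ)) :=
  [[[3, 1], [0]], [[1, 1, 2, 0, 3, 0], [3, 3, 1]], [[0, 0, 1, 3, 1, 0, 3]], [[3, 2, 3, 1, 1, 3, 2, 0, 0]]]

/-- The orbits. -/
def orbits : List (List ℕ) :=
  [[17, 202, 154, 42, 99, 147, 121, 54, 228, 108, 196, 116, 216, 241, 191, 181, 212, 178, 140, 149, 46, 29, 136, 184, 21, 158, 214, 92, 119, 197, 151, 25, 19, 221, 137, 169, 106, 152, 239, 77, 49, 39, 162, 61, 100, 145, 114, 83, 62, 177, 198, 84, 211, 218, 227, 58, 122, 254, 233, 163, 70, 167, 139, 101, 35, 57, 229, 109, 244, 43, 127, 78, 226, 53, 188, 142, 166, 94, 199, 91, 156, 107, 173, 200, 23, 201, 89, 248, 98, 50, 143, 47, 247, 251, 38, 223, 71, 113, 76, 209, 69, 124, 141, 182, 138, 172, 203, 34, 238, 232, 187, 27, 86, 79, 253, 242, 31, 168, 68, 81],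
   [21, 221, 149, 142, 196, 46, 232, 241, 202, 25, 253, 34, 172, 27, 198, 200, 113, 68, 100, 106, 127, 223, 81, 57, 83, 187, 70, 211, 228, 151, 209, 162, 140, 53, 181, 23],
   [23, 149, 162, 142, 181, 27],
   [27, 149, 142]]

/-- The spanning trees. -/
def trees : List (List (ℕ × ℕ)) :=
  [[(0, 0), (0, 0), (0, 1), (1, 0), (1, 1), (2, 0), (2, 1), (3, 0), (3, 1), (4, 0), (4, 1), (5, 0), (5, 1), (6, 0), (6, 1), (7, 0), (7, 1), (8, 0), (8, 1), (9, 0), (9, 1), (10, 0), (10, 1), (11, 0), (11, 1), (12, 0), (13, 0), (14, 0), (14, 1), (15, 0), (15, 1), (16, 0), (16, 1), (17, 1), (18, 0), (18, 1), (19, 0), (20, 0), (20, 1), (21, 0), (21, 1), (22, 0), (22, 1), (23, 1), (24, 0), (24, 1), (25, 1), (26, 1), (27, 0), (27, 1), (28, 0), (28, 1), (29, 0), (30, 0), (31, 0), (31, 1), (32, 0), (33, 0), (34, 0), (34, 1), (35, 0), (35, 1), (36, 0), (36, 1), (37, 0), (37, 1), (38, 0), (38, 1), (39, 0), (39,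 1), (41, 0), (41, 1), (43, 0), (43, 1), (44, 0), (44, 1), (46, 0), (46, 1), (47, 0), (47, 1), (48, 0), (49, 0), (50, 0), (50, 1), (51, 0), (52, 0), (52, 1), (53, 1), (54, 0), (55, 0), (56, 0), (57, 0), (57, 1), (58, 0), (58, 1), (59, 0), (59, 1), (61, 0), (61, 1), (64, 0), (64, 1), (66, 0), (66, 1), (68, 0), (71, 0), (72, 0), (73, 0), (74, 0), (79, 0), (82, 0), (86, 1), (89, 0), (91, 0), (93, 0), (93, 1), (95, 1), (97, 1), (102, 1), (107, 1), (112, 1)],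
   [(0, 0), (0, 0), (0, 1), (1, 0), (1, 1), (2, 0), (2, 1), (3, 0), (4, 0), (4, 1), (5, 0), (5, 1), (6, 0), (6, 1), (7, 1), (8, 0), (8, 1), (9, 0), (11, 0), (11, 1), (12, 1), (13, 0), (14, 0), (14, 1), (15, 0), (16, 1), (19, 1), (20, 1), (21, 1), (23, 1), (24, 1), (26, 0), (27, 0), (28, 0), (29, 0), (30, 0)],
   [(0, 0), (0, 0), (1, 0), (2, 0), (3, 0), (4, 0)],
   [(0, 0), (0, 0), (1, 0)]]

/-- The unit vectors in terms of the frame. -/
def frameExpr : List ℕ :=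
  [245, 6, 3, 15, 244, 200, 109, 138]

end Cfsg.Agent.Lib.Leech.Suz
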