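import Cfsg.Agent.Lib.Leech.Suz.BigQ

/-!
The centraliser of the element of order three in the stabiliser of the octad sign change: its image
on the eight bits has order 77760, by a stabiliser chain.
-/

set_option autoImplicit false
set_option linter.style.haveILetI false

namespace Cfsg.Agent.Lib.Leech.Suz

open Cfsg
open Cfsg.Agent.Lib
open Cfsg.Agent.Lib.Leech.Co1TwoA

/-- The eight-dimensional space. -/
abbrev V8 := Fin 4 ⊕ Fin 4 → ZMod 2

/-- The centraliser of the element of order three. -/
noncomputable def T : Subgroup stab := Subgroup.centralizer {aS}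

theorem mem_T {g : stab} : g ∈ T ↔ g * aS = aS * g := Subgroup.mem_centralizer_singleton_iff

/-- The action of an element on the eight bits. -/
noncomputable def act (g : stab) (u : V8) : V8 := (actMat g).mulVec u

theorem act_mul (g h : stab) (u : V8) : act (g * h) u = act g (act h u) := by
  rw [act, act, act, actMat_mul, Matrix.mulVec_mulVec]

theorem act_one (u : V8) : act 1 u = u := by rw [act, actMat_one, Matrix.one_mulVec]

theorem act_add (g : stab) (u v : V8) : act g (u + v) = act g u + act g v := Matrix.mulVec_add _ _ _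

theorem act_q (g : stab) (u : V8) :
    quadFormPlus 4 (ZMod 2) (act g u) = quadFormPlus 4 (ZMod 2) u := (rhoO g).2 u u

/-- The action as permutations. -/
noncomputable def permV : stab →* Equiv.Perm V8 where
  toFun g :=
    { toFun := act g
      invFun := act g⁻¹
      left_inv := fun u => by rw [← act_mul, inv_mul_cancel, act_one]
      right_inv := fun u => by rw [← act_mul, mul_inv_cancel, act_one] }
  map_one' := Equiv.ext act_one
  map_mul' g h := Equiv.ext (act_mul g h)

theorem permV_apply (g : stab) (u : V8) : permV g u = act g u := rfl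

/-! ### Evaluation on masks -/

/-- A representative as a list. -/
def repL (a : Fin 8 → ZMod 2) : List ℤ := (List.finRange 24).map fun i => rep a (Golay.pt i)

/-- The effect of a word on a bit vector, through lists. -/
def runW (w : List Step) (u : V8) : V8 := phiVec (vecOf (wordL w (repL (liftA u))))

theorem act_word {w : List Step} (hw : w.all Step.stabOk = true) (u : V8) :
    act (wordStab w hw) u = runW w u := by
  have h := phi_actV (wordStab w hw) (liftV u)
  rw [phi_liftV] at h
  rw [act, ← h]
  show phiVec _ = phiVec _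
  congr 1
  refine word_smul (all_ok_of_stabOk hw) _ (liftV u).1 ?_
  rw [liftV, coe_repPt]
  funext p
  rw [repL, vecOf_map, Golay.pt_idx]

/-- The image of a mask under a list of columns. -/
def ap8 (cols : List ℕ) (m : ℕ) : ℕ :=
  (List.range 8).foldl (fun r i => if m.testBit i then r ^^^ cols.getD i 0 else r) 0

theorem genWords_ok : ∀ i : Fin 4, ((genWords.getD i.val []).all Step.stabOk &&
    sameWord (genWords.getD i.val [] ++ aWord) (aWord ++ genWords.getD i.val [])) = true := by
  decide +kernel

/-- The generators. -/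
noncomputable def genT (i : Fin 4) : stab :=
  wordStab (genWords.getD i.val []) (Bool.and_eq_true_iff.1 (genWords_ok i)).1

theorem genT_mem (i : Fin 4) : genT i ∈ T := by
  refine mem_T.2 (Subtype.ext ?_)
  show wordCo _ * wordCo aWord = wordCo aWord * wordCo _
  rw [← wordCo_append, ← wordCo_append]
  exact eq_of_sameWord (Bool.and_eq_true_iff.1 (genWords_ok i)).2

set_option maxRecDepth 4000 in
theorem genCols_ok : ∀ i : Fin 4, ∀ m : Fin 256,
    runW (genWords.getD i.val []) (vecOfMask m.val) = vecOfMask (ap8 (genCols.getD i.val []) m.val) ∧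
      ap8 (genCols.getD i.val []) m.val < 256 := by
  decide +kernel

set_option maxRecDepth 4000 in
theorem aCols_ok : ∀ m : Fin 256,
    runW aWord (vecOfMask m.val) = vecOfMask (ap8 aCols m.val) ∧ ap8 aCols m.val < 256 := by
  decide +kernel

theorem vecOfMask_surj : ∀ u : V8, ∃ m : Fin 256, vecOfMask m.val = u := by decide +kernel

theorem act_genT (i : Fin 4) {m : ℕ} (hm : m < 256) :
    act (genT i) (vecOfMask m) = vecOfMask (ap8 (genCols.getD i.val []) m) :=
  (act_word _ _).trans (genCols_ok i ⟨m, hm⟩).1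

/-- The element of order three on bit vectors, through masks. -/
noncomputable def aV (u : V8) : V8 := act aS u

theorem aV_mask {m : ℕ} (hm : m < 256) : aV (vecOfMask m) = vecOfMask (ap8 aCols m) :=
  (act_word aWord_ok _).trans (aCols_ok ⟨m, hm⟩).1

/-- A product of generators. -/
noncomputable def wordT : List ℕ → stab
  | [] => 1
  | i :: w => if h : i < 4 then genT ⟨i, h⟩ * wordT w else wordT w

theorem wordT_mem : ∀ w, wordT w ∈ T
  | [] => one_mem _
  | i :: w => by
    rw [wordT]
    split
    · exact mul_mem (genT_mem _) (wordT_mem w)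
    · exact wordT_mem w

/-- A product of generators on masks. -/
def wordM : List ℕ → ℕ → ℕ
  | [], m => m
  | i :: w, m => if i < 4 then ap8 (genCols.getD i []) (wordM w m) else wordM w m

theorem wordM_spec : ∀ w, ∀ {m : ℕ}, m < 256 →
    wordM w m < 256 ∧ act (wordT w) (vecOfMask m) = vecOfMask (wordM w m)
  | [], m, hm => ⟨hm, act_one _⟩
  | i :: w, m, hm => by
    obtain ⟨h1, h2⟩ := wordM_spec w hm
    rw [wordT, wordM]
    split <;> rename_i hi
    · exact ⟨(genCols_ok ⟨i, hi⟩ ⟨_, h1⟩).2, by rw [act_mul, h2, act_genT _ h1]⟩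
    · exact ⟨h1, h2⟩

/-! ### The chain -/

/-- A base point. -/
def eV (j : ℕ) : V8 := vecOfMask (basePts.getD j 0)

/-- The image group. -/
noncomputable def H0 : Subgroup (Equiv.Perm V8) := T.map permV

/-- The members of the chain. -/
noncomputable def Hk : ℕ → Subgroup (Equiv.Perm V8)
  | 0 => H0
  | k + 1 => Hk k ⊓ MulAction.stabilizer (Equiv.Perm V8) (eV k)

theorem mem_Hk : ∀ {k : ℕ} {h : Equiv.Perm V8}, h ∈ Hk k ↔ h ∈ H0 ∧ ∀ j < k, h (eV j) = eV j
  | 0, h => by simp [Hk]
  | k + 1, h => by
    rw [Hk, Subgroup.mem_inf, mem_Hk, MulAction.mem_stabilizer_iff, Equiv.Perm.smul_def]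
    constructor
    · rintro ⟨⟨h0, hf⟩, hk⟩
      exact ⟨h0, fun j hj => (Nat.lt_succ_iff_lt_or_eq.1 hj).elim (hf j) (fun e => e ▸ hk)⟩
    · rintro ⟨h0, hf⟩
      exact ⟨⟨h0, fun j hj => hf j (hj.trans (Nat.lt_succ_self k))⟩, hf k (Nat.lt_succ_self k)⟩

/-- The polarised form. -/
def bV (u v : V8) : ZMod 2 :=
  quadFormPlus 4 (ZMod 2) (u + v) + quadFormPlus 4 (ZMod 2) u + quadFormPlus 4 (ZMod 2) v

/-- The candidates of a level, through masks. -/
def cand (k : ℕ) : Finset V8 :=
  Finset.univ.filter fun v => quadFormPlus 4 (ZMod 2) v = 1 ∧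
    ∀ j ∈ List.range k, bV (eV j) v = 0 ∧ bV (vecOfMask (ap8 aCols (basePts.getD j 0))) v = 0

theorem base_lt : ∀ j : Fin 4, basePts.getD j.val 0 < 256 := by decide +kernel

theorem eV_self : ∀ k : Fin 4, eV k.val ∈ cand k.val := by decide +kernel

theorem H0_spec {h : Equiv.Perm V8} (hh : h ∈ H0) :
    (∀ u v, h (u + v) = h u + h v) ∧ (∀ u, quadFormPlus 4 (ZMod 2) (h u) = quadFormPlus 4 (ZMod 2) u) ∧
      ∀ u, h (aV u) = aV (h u) := by
  obtain ⟨g, hg, rfl⟩ := hh
  refine ⟨act_add g, act_q g, fun u => ?_⟩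
  show act g (act aS u) = act aS (act g u)
  rw [← act_mul, ← act_mul, mem_T.1 hg]

theorem maps_cand {k : ℕ} (hk : k < 4) {h : Equiv.Perm V8} (hh : h ∈ Hk k) : h (eV k) ∈ cand k := by
  obtain ⟨h0, hfix⟩ := mem_Hk.1 hh
  obtain ⟨hadd, hq, ha⟩ := H0_spec h0
  have hs := eV_self ⟨k, hk⟩
  simp only [cand, Finset.mem_filter, Finset.mem_univ, true_and, List.mem_range] at hs ⊢
  have hb : ∀ u v, bV (h u) (h v) = bV u v := fun u v => by simp only [bV, ← hadd, hq]
  refine ⟨(hq _).trans hs.1, fun j hj => ⟨?_, ?_⟩⟩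
  · rw [← hfix j hj, hb]; exact (hs.2 j hj).1
  · rw [← aV_mask (base_lt ⟨j, hj.trans hk⟩)]
    show bV (aV (eV j)) _ = 0
    rw [← hfix j hj, ← ha, hb, eV, aV_mask (base_lt ⟨j, hj.trans hk⟩)]
    exact (hs.2 j hj).2

theorem orbit_facts : ∀ k : Fin 4,
    ((orbits.getD k.val []).getD 0 0 == basePts.getD k.val 0 &&
    ((List.range (orbits.getD k.val []).length).all fun n => n == 0 ||
      (decide (((trees.getD k.val []).getD n (0, 0)).1 < n) &&
        (orbits.getD k.val []).getD n 0 ==
          wordM ((levelGens.getD k.val []).getD ((trees.getD k.val []).getD n (0, 0)).2 [])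
            ((orbits.getD k.val []).getD ((trees.getD k.val []).getD n (0, 0)).1 0))) &&
    ((levelGens.getD k.val []).all fun w => (List.range k.val).all fun j =>
      wordM w (basePts.getD j 0) == basePts.getD j 0) &&
    ((orbits.getD k.val []).all fun m => decide (m < 256))) = true := by
  decide +kernel

theorem cand_listed : ∀ k : Fin 4, ∀ v ∈ cand k.val,
    ((List.range (orbits.getD k.val []).length).any fun n =>
      decide (vecOfMask ((orbits.getD k.val []).getD n 0) = v)) = true := by
  decide +kernel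

theorem reach (k : Fin 4) : ∀ n < (orbits.getD k.val []).length,
    ∃ h ∈ Hk k.val, h (eV k.val) = vecOfMask ((orbits.getD k.val []).getD n 0) := by
  have hf := orbit_facts k
  simp only [Bool.and_eq_true, List.all_eq_true, List.mem_range, Bool.or_eq_true, beq_iff_eq,
    decide_eq_true_eq] at hf
  obtain ⟨⟨⟨h0, hstep⟩, hfix⟩, hlt⟩ := hf
  intro n
  induction n using Nat.strong_induction_on with
  | _ n ih =>
    intro hn
    rcases hstep n hn with e | ⟨hp, he⟩
    · subst e
      exact ⟨1, one_mem _, by rw [Equiv.Perm.one_apply, eV, h0]⟩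
    · obtain ⟨h, hh, hhe⟩ := ih _ hp (hp.trans hn)
      set w := (levelGens.getD k.val []).getD ((trees.getD k.val []).getD n (0, 0)).2 [] with hw
      have hpar : (orbits.getD k.val []).getD ((trees.getD k.val []).getD n (0, 0)).1 0 < 256 := by
        rw [List.getD_eq_getElem _ _ (hp.trans hn)]; exact hlt _ (List.getElem_mem _)
      refine ⟨permV (wordT w) * h, mul_mem (mem_Hk.2 ⟨⟨_, wordT_mem w, rfl⟩, fun j hj => ?_⟩) hh, ?_⟩
      · rw [permV_apply, eV, (wordM_spec w (base_lt ⟨j, hj.trans k.isLt⟩)).2]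
        congr 1
        rcases Nat.lt_or_ge ((trees.getD k.val []).getD n (0, 0)).2 (levelGens.getD k.val []).length with hl | hl
        · exact hfix w (by rw [hw, List.getD_eq_getElem _ _ hl]; exact List.getElem_mem _) j hj
        · rw [hw, List.getD_eq_default _ _ hl]; rfl
      · rw [Equiv.Perm.mul_apply, hhe, permV_apply, (wordM_spec w hpar).2, ← he]

theorem card_step {k : ℕ} (hk : k < 4) : Nat.card (Hk k) = (cand k).card * Nat.card (Hk (k + 1)) := by
  classical
  have horb : MulAction.orbit (Hk k) (eV k) = (cand k : Set V8) := by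
    ext v
    constructor
    · rintro ⟨⟨h, hh⟩, rfl⟩; exact maps_cand hk hh
    · intro hv
      have h1 := cand_listed ⟨k, hk⟩ v hv
      simp only [List.any_eq_true, List.mem_range, decide_eq_true_eq] at h1
      obtain ⟨n, hn, rfl⟩ := h1
      obtain ⟨h, hh, he⟩ := reach ⟨k, hk⟩ n hn
      exact ⟨⟨h, hh⟩, he⟩
  have h := (MulAction.stabilizer (Hk k) (eV k)).index_mul_card
  rw [MulAction.index_stabilizer, horb, Set.ncard_coe_finset] at h
  rw [← h]
  congr 1
  refine Nat.card_congr ⟨fun g => ⟨g.1.1, Subgroup.mem_inf.2 ⟨g.1.2, MulAction.mem_stabilizer_iff.2 g.2⟩⟩,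
    fun g => ⟨⟨g.1, (Subgroup.mem_inf.1 g.2).1⟩, MulAction.mem_stabilizer_iff.2 ((Subgroup.mem_inf.1 g.2).2)⟩,
    fun g => rfl, fun g => rfl⟩

theorem cand_card : (cand 0).card = 120 ∧ (cand 1).card = 36 ∧ (cand 2).card = 6 ∧ (cand 3).card = 3 := by
  decide +kernel

theorem frame_span : ∀ i : Fin 4 ⊕ Fin 4, Pi.single i (1 : ZMod 2) =
    ((List.range 8).filter fun t => (frameExpr.getD (bitPos i) 0).testBit t).foldr
      (fun t v => vecOfMask (if t < 4 then basePts.getD t 0 else ap8 aCols (basePts.getD (t - 4) 0)) + v) 0 := by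
  decide +kernel

theorem Hk_four : Hk 4 = ⊥ := by
  rw [Subgroup.eq_bot_iff_forall]
  intro h hh
  obtain ⟨h0, hfix⟩ := mem_Hk.1 hh
  obtain ⟨hadd, -, ha⟩ := H0_spec h0
  have hz : h 0 = 0 := by simpa using hadd 0 0
  have hframe : ∀ t < 8, h (vecOfMask (if t < 4 then basePts.getD t 0 else ap8 aCols (basePts.getD (t - 4) 0))) =
      vecOfMask (if t < 4 then basePts.getD t 0 else ap8 aCols (basePts.getD (t - 4) 0)) := by
    intro t ht
    split <;> rename_i h4
    · exact hfix t h4
    · rw [← aV_mask (base_lt ⟨t - 4, by omega⟩), ha]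
      exact congrArg aV (hfix (t - 4) (by omega))
  have hlist : ∀ l : List ℕ, (∀ t ∈ l, t < 8) → h (l.foldr
      (fun t v => vecOfMask (if t < 4 then basePts.getD t 0 else ap8 aCols (basePts.getD (t - 4) 0)) + v) 0) =
      l.foldr (fun t v => vecOfMask (if t < 4 then basePts.getD t 0 else ap8 aCols (basePts.getD (t - 4) 0)) + v) 0 := by
    intro l
    induction l with
    | nil => exact fun _ => hz
    | cons t l ih =>
      intro hl
      rw [List.foldr_cons, hadd, hframe t (hl t (by simp)), ih fun s hs => hl s (by simp [hs])]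
  have hsingle : ∀ i : Fin 4 ⊕ Fin 4, h (Pi.single i 1) = Pi.single i 1 := fun i => by
    rw [frame_span i]
    exact hlist _ fun t ht => List.mem_range.1 (List.mem_filter.1 ht).1
  refine Equiv.ext fun u => ?_
  let F : V8 →+ V8 := AddMonoidHom.mk' h hadd
  have hu : u = ∑ i ∈ Finset.univ.filter (fun i => u i = 1), Pi.single i 1 := by
    funext k
    rw [Finset.sum_apply]
    simp only [Pi.single_apply, Finset.sum_ite_eq, Finset.mem_filter, Finset.mem_univ, true_and]
    rcases zmod2_cases (u k) with h1 | h1 <;> rw [h1] <;> simp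
  show F u = u
  conv_lhs => rw [hu, map_sum]
  conv_rhs => rw [hu]
  exact Finset.sum_congr rfl fun i _ => hsingle i

theorem card_H0 : Nat.card H0 = 77760 := by
  obtain ⟨c0, c1, c2, c3⟩ := cand_card
  show Nat.card (Hk 0) = 77760
  rw [card_step (by norm_num), card_step (by norm_num), card_step (by norm_num), card_step (by norm_num),
    c0, c1, c2, c3, Hk_four, Subgroup.card_bot]

theorem permV_eq_one_iff {g : stab} : permV g = 1 ↔ rhoO g = 1 := by
  rw [rhoO_eq_one_iff]
  constructor
  · intro h v
    rw [phi_actV]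
    exact congrArg (fun p : Equiv.Perm V8 => p (phi v)) h
  · intro h
    refine Equiv.ext fun u => ?_
    have := h (liftV u)
    rw [phi_actV, phi_liftV] at this
    exact this

end Cfsg.Agent.Lib.Leech.Suz
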