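import Cfsg.Agent.Lib.Leech.Suz.Cent
import Cfsg.Agent.Lib.Leech.Suz.Abstract

/-!
The section of the Leech group at an element of order three without fixed points is a non-abelian
simple group with an involution centraliser of shape `2^{1+6}.Ω⁻(6,2)`.
-/

set_option autoImplicit false
set_option linter.style.haveILetI false

namespace Cfsg.Agent.Lib.Leech.Suz

open Cfsg
open Cfsg.Agent.Lib
open Cfsg.Agent.Lib.Leech.Co1TwoA
open scoped Pointwise symmDiff

/-- The element of order three in the Leech group. -/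
noncomputable def aCo : Co0 := ((aS : stab) : Co0)

/-- The subgroup of order three. -/
noncomputable def Agrp : Subgroup Co0 := Subgroup.zpowers aCo

/-- Its centraliser. -/
noncomputable def Cgrp : Subgroup Co0 := Subgroup.centralizer (Agrp : Set Co0)

theorem mem_Cgrp {c : Co0} : c ∈ Cgrp ↔ c * aCo = aCo * c := by
  constructor
  · intro h; exact (Subgroup.mem_centralizer_iff.1 h aCo (Subgroup.mem_zpowers _)).symm
  · intro h
    refine Subgroup.mem_centralizer_iff.2 fun x hx => ?_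
    obtain ⟨n, rfl⟩ := hx
    exact ((Commute.symm h).zpow_left n).eq

/-- The subgroup factored out. -/
noncomputable def Ngrp : Subgroup Cgrp := (Agrp ⊔ Subgroup.center Co0).subgroupOf Cgrp

theorem comm_of_mem {x c : Co0} (hx : x ∈ Agrp ⊔ Subgroup.center Co0) (hc : c ∈ Cgrp) : c * x = x * c := by
  have hle : Agrp ⊔ Subgroup.center Co0 ≤ Subgroup.centralizer (Cgrp : Set Co0) := by
    refine sup_le (fun a ha => Subgroup.mem_centralizer_iff.2 fun d hd => ?_)
      (fun a ha => Subgroup.mem_centralizer_iff.2 fun d _ => Subgroup.mem_center_iff.1 ha d)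
    exact (Subgroup.mem_centralizer_iff.1 hd a ha).symm
  exact Subgroup.mem_centralizer_iff.1 (hle hx) c hc

instance normal_Ngrp : Ngrp.Normal where
  conj_mem x hx c := by
    have e : c * x * c⁻¹ = x := by
      refine Subtype.ext ?_
      show (c : Co0) * x * (c : Co0)⁻¹ = x
      rw [comm_of_mem (Subgroup.mem_subgroupOf.1 hx) c.2, mul_inv_cancel_right]
    rwa [e]

/-- The section. -/
abbrev Sect := Cgrp ⧸ Ngrp

theorem exists_form {x : Co0} (hx : x ∈ Agrp ⊔ Subgroup.center Co0) :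
    ∃ (i : ℤ) (e : Co0), e ∈ Subgroup.center Co0 ∧ x = aCo ^ i * e := by
  obtain ⟨a, ha, e, he, rfl⟩ := Subgroup.mem_sup_of_normal_right.1 hx
  obtain ⟨i, rfl⟩ := ha
  exact ⟨i, e, he, rfl⟩

/-- The inclusion of `T`. -/
noncomputable def iota : T →* Cgrp :=
  (stab.subtype.comp T.subtype).codRestrict Cgrp fun g => mem_Cgrp.2 (congrArg Subtype.val (mem_T.1 g.2))

/-- The map of `T` to the section. -/
noncomputable def psi : T →* Sect := (QuotientGroup.mk' Ngrp).comp iota

theorem zCo_mem_stab : zCo ∈ stab := mem_stab_iff.2 rfl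

/-- The sign change in `T`. -/
noncomputable def zT : T :=
  ⟨⟨zCo, zCo_mem_stab⟩, mem_T.2 (Subtype.ext (mem_stab_iff.1 aS.2).symm)⟩

theorem zT_mem_KT : zT ∈ KT :=
  mem_KT.2 (ker_iff.2 ⟨1, one_mem _, octO, isCodeSet_octO, rfl, fun _ _ => rfl, Or.inr le_rfl⟩)

theorem phK_zT : phK ⟨zT, zT_mem_KT⟩ = zQ := Subtype.ext (Subtype.ext (coe_zQ).symm)

/-- The involution of the section. -/
noncomputable def zS : Sect := psi zT

theorem psi_eq_one_iff {g : T} :
    psi g = 1 ↔ ((g : stab) : Co0) ∈ Agrp ⊔ Subgroup.center Co0 :=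
  (QuotientGroup.eq_one_iff _).trans Subgroup.mem_subgroupOf

theorem psi_aT : psi aT = 1 := psi_eq_one_iff.2 (Subgroup.mem_sup_left (Subgroup.mem_zpowers _))
theorem psi_nT : psi nT = 1 := psi_eq_one_iff.2 (Subgroup.mem_sup_right negCo_mem_center)

theorem psi_cases {g : T} (h : psi g = 1) : ∃ i : ℤ, g = aT ^ i ∨ g = aT ^ i * nT := by
  obtain ⟨i, e, he, hg⟩ := exists_form (psi_eq_one_iff.1 h)
  refine ⟨i, ?_⟩
  rcases center_cases he with rfl | rfl
  · left; refine Subtype.ext (Subtype.ext ?_); rw [hg, mul_one]; rfl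
  · right; refine Subtype.ext (Subtype.ext ?_); rw [hg]; rfl

theorem zpow_aT_KT {i : ℤ} (h : aT ^ i ∈ KT) : aT ^ i = 1 := by
  have h1 : permV ((aT ^ i : T) : stab) = 1 := permV_eq_one_iff.2 (mem_KT.1 h)
  rw [SubgroupClass.coe_zpow, map_zpow, show ((aT : T) : stab) = aS from rfl,
    ← orderOf_dvd_iff_zpow_eq_one, orderOf_permV_aS] at h1
  obtain ⟨k, rfl⟩ := h1
  have h3 : aT ^ ((3 : ℕ) : ℤ) = 1 := by rw [zpow_natCast, pow_succ, pow_succ, pow_one, aT_cube]
  rw [zpow_mul, h3, one_zpow]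

theorem psi_eq_one_iff_phK (g : KT) : psi g.1 = 1 ↔ phK g = 1 := by
  constructor
  · intro h
    refine Subtype.ext ?_
    show thT g.1 = 1
    obtain ⟨i, e | e⟩ := psi_cases h
    · rw [e, zpow_aT_KT (e ▸ g.2), map_one]
    · have hK : aT ^ i ∈ KT := by
        have := mul_mem g.2 (inv_mem nT_mem_KT)
        rwa [e, mul_inv_cancel_right] at this
      rw [e, zpow_aT_KT hK, one_mul, thT_nT]
  · intro h
    rcases thT_eq_one (congrArg Subtype.val h : thT g.1 = 1) with e | e
    · rw [e, map_one]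
    · rw [e, psi_nT]

theorem psi_eq_iff (g h : KT) : psi g.1 = psi h.1 ↔ phK g = phK h := by
  have e := psi_eq_one_iff_phK (g * h⁻¹)
  rw [map_mul, map_inv, Subgroup.coe_mul, Subgroup.coe_inv, map_mul, map_inv, mul_inv_eq_one,
    mul_inv_eq_one] at e
  exact e

theorem psi_zT_ne_one : zS ≠ 1 := fun h => by
  have := (psi_eq_one_iff_phK ⟨zT, zT_mem_KT⟩).1 h
  rw [phK_zT] at this
  exact zQ_ne_one this

theorem zS_sq : zS * zS = 1 := by
  rw [zS, ← map_mul]
  have := (psi_eq_one_iff_phK (⟨zT, zT_mem_KT⟩ * ⟨zT, zT_mem_KT⟩)).2 (by rw [map_mul, phK_zT, zQ_sq])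
  exact this

theorem psi_commute_zS (g : T) : psi g * zS = zS * psi g := by
  rw [zS, ← map_mul, ← map_mul]
  refine congrArg psi (Subtype.ext (Subtype.ext ?_))
  exact mem_stab_iff.1 g.1.2

theorem exists_psi {x : Sect} (hx : x * zS = zS * x) : ∃ g : T, psi g = x := by
  obtain ⟨c, rfl⟩ := QuotientGroup.mk'_surjective Ngrp x
  have hz : (zCo : Co0) ∈ Cgrp := (iota zT).2
  set n : Co0 := (c : Co0) * zCo * (c : Co0)⁻¹ * zCo⁻¹ with hn
  have hmem : n ∈ Agrp ⊔ Subgroup.center Co0 := by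
    have h1 : (QuotientGroup.mk' Ngrp) (c * iota zT * c⁻¹ * (iota zT)⁻¹) = 1 := by
      rw [map_mul, map_mul, map_mul, map_inv, map_inv]
      show _ * zS * _ * zS⁻¹ = 1
      rw [hx, mul_inv_cancel_right, mul_inv_cancel]
    exact Subgroup.mem_subgroupOf.1 ((QuotientGroup.eq_one_iff (N := Ngrp) _).1 h1)
  have hz2 : zCo * zCo = 1 := by
    rw [zCo, monoS_mul]
    exact (monoS_congr (hτ := one_mem M24) (ht := Golay.isCodeSet_empty) (mul_one 1)
      (by rw [show ((1 : Equiv.Perm GolayPt)) • octO = octO from one_smul _ _, symmDiff_self]; rfl)).trans monoS_one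
  have hzn : zCo * n = n * zCo := comm_of_mem hmem hz
  have hzz : zCo⁻¹ = zCo := inv_eq_of_mul_eq_one_right hz2
  have hn2 : n * n = 1 := by
    have e : n * zCo = (c : Co0) * zCo * (c : Co0)⁻¹ := by rw [hn]; group
    calc n * n = n * (zCo * zCo) * n := by rw [hz2, mul_one]
      _ = n * zCo * (zCo * n) := by group
      _ = n * zCo * (n * zCo) := by rw [hzn]
      _ = (c : Co0) * (zCo * zCo) * (c : Co0)⁻¹ := by rw [e]; group
      _ = 1 := by rw [hz2]; group
  obtain ⟨i, e, he, hne⟩ := exists_form hmem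
  have hai : aCo ^ i = 1 := by
    have h3 : aCo ^ (3 : ℤ) = 1 := by
      rw [show (3 : ℤ) = ((3 : ℕ) : ℤ) from rfl, zpow_natCast, pow_succ, pow_succ, pow_one]
      exact aS_pow_cube
    have he2 : e * e = 1 := by
      rcases center_cases he with rfl | rfl
      · exact one_mul 1
      · exact negCo_sq
    have h2 : aCo ^ i * aCo ^ i = 1 := by
      calc aCo ^ i * aCo ^ i = aCo ^ i * (e * e) * aCo ^ i := by rw [he2, mul_one]
        _ = aCo ^ i * e * (e * aCo ^ i) := by group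
        _ = aCo ^ i * e * (aCo ^ i * e) := by rw [Subgroup.mem_center_iff.1 he (aCo ^ i)]
        _ = 1 := by rw [← hne, hn2]
    calc aCo ^ i = (aCo ^ (3 : ℤ)) ^ i * ((aCo ^ i * aCo ^ i))⁻¹ := by group
      _ = 1 := by rw [h3, h2, one_zpow, inv_one, mul_one]
  rw [hai, one_mul] at hne
  have hp : proj (c : Co0) ∈ centZ := by
    rw [Subgroup.mem_centralizer_singleton_iff, zBar, ← map_mul, ← map_mul]
    have e2 : (c : Co0) * zCo = e * (zCo * c) := by rw [← hne, hn]; group
    rw [e2, map_mul, show proj e = 1 from (QuotientGroup.eq_one_iff _).2 he, one_mul]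
  obtain ⟨g, hg⟩ := theta_surjective ⟨proj c, hp⟩
  have hcs : (c : Co0) ∈ stab := by
    rcases eq_or_eq_neg (congrArg Subtype.val hg) with h | h
    · exact h ▸ g.2
    · have h2 : (g : Co0) = negCo * c := h
      have h' : (c : Co0) = negCo * (g : Co0) := by rw [h2, ← mul_assoc, negCo_sq, one_mul]
      exact h' ▸ mul_mem negCo_mem_stab g.2
  exact ⟨⟨⟨c, hcs⟩, mem_T.2 (Subtype.ext (mem_Cgrp.1 c.2))⟩, rfl⟩

/-! ### The core -/

/-- The core, in the section. -/
noncomputable def QS : Subgroup Sect := (psi.comp KT.subtype).range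

theorem mem_QS {x : Sect} : x ∈ QS ↔ ∃ k : KT, psi k.1 = x := Iff.rfl

theorem card_QS : Nat.card QS = 128 := by
  haveI := finite_co0
  have hker : (psi.comp KT.subtype).ker = phK.ker := by
    ext g; exact psi_eq_one_iff_phK g
  rw [QS, ← Nat.card_congr (QuotientGroup.quotientKerEquivRange _).toEquiv, hker,
    Nat.card_congr (QuotientGroup.quotientKerEquivRange phK).toEquiv, phK_range, card_QA]

/-- Conjugation of the kernel by an element of `T`. -/
noncomputable def conjK (g : T) (k : KT) : KT :=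
  ⟨g * k.1 * g⁻¹, Subgroup.Normal.conj_mem inferInstance _ k.2 g⟩

theorem psi_conjK (g : T) (k : KT) : psi (conjK g k).1 = psi g * psi k.1 * (psi g)⁻¹ := by
  simp [conjK, map_mul, map_inv]

theorem phK_conjK (g : T) (k : KT) : phK (conjK g k) = conjQ (thT g) (phK k) :=
  Subtype.ext (by show thT (g * k.1 * g⁻¹) = _; rw [map_mul, map_mul, map_inv]; rfl)

theorem psi_faithful {g : T} (h : ∀ x ∈ QS, psi g * x = x * psi g ∨ psi g * x = zS * (x * psi g)) :
    psi g ∈ QS := by
  have h6 : rho6 g = 1 := rho6_eq_one_of fun x hx => by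
    obtain ⟨k, rfl⟩ := exists_phK hx
    rw [← phK_conjK]
    have hk : psi (conjK g k).1 = psi k.1 ∨ psi (conjK g k).1 = psi ((⟨zT, zT_mem_KT⟩ : KT) * k).1 := by
      rw [psi_conjK]
      rcases h _ ⟨k, rfl⟩ with e | e
      · left; rw [show psi.comp KT.subtype k = psi k.1 from rfl] at e; rw [e, mul_inv_cancel_right]
      · right
        rw [show psi.comp KT.subtype k = psi k.1 from rfl] at e
        rw [e, Subgroup.coe_mul, map_mul, mul_assoc zS, mul_inv_cancel_right]; rfl
    rcases hk with e | e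
    · rw [(psi_eq_iff _ _).1 e]
    · rw [(psi_eq_iff _ _).1 e, map_mul, phK_zT]
      funext i
      show kap (zQ * phK k) _ = _
      rw [kap_mul, kap_zQ, zero_add]; rfl
  obtain ⟨i, -, hi⟩ := rho6_ker_cases h6
  exact ⟨⟨_, hi⟩, by
    show psi (aT ^ i * g) = psi g
    rw [map_mul, map_pow, psi_aT, one_pow, one_mul]⟩

theorem pair_check : ∀ e : I6 → ZMod 2, ∃ f g : I6 → ZMod 2,
    q6 (f + e) + q6 f + q6 e = 0 ∧ q6 (g + e) + q6 g + q6 e = 0 ∧ q6 (f + g) + q6 f + q6 g = 1 := by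
  decide +kernel

theorem cbit_QA {x y : bigQ} (hx : x ∈ QA) (hy : y ∈ QA) :
    cbit x y = q6 (kap6 x + kap6 y) + q6 (kap6 x) + q6 (kap6 y) := by
  have h := sbit_mul x y
  rw [sbit_eq_q6 (mul_mem hx hy), sbit_eq_q6 hx, sbit_eq_q6 hy, cbit_symm,
    show kap6 (x * y) = kap6 x + kap6 y from funext fun i => congrFun (kap_mul x y) _] at h
  rw [h]
  linear_combination -(CharTwo.add_self_eq_zero (q6 (kap6 x))) - CharTwo.add_self_eq_zero (q6 (kap6 y))

theorem psi_comm_iff (j k : KT) : psi j.1 * psi k.1 = psi k.1 * psi j.1 ↔ cbit (phK j) (phK k) = 0 := by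
  rw [← map_mul, ← map_mul, ← Subgroup.coe_mul, ← Subgroup.coe_mul, psi_eq_iff, map_mul, map_mul]
  unfold cbit
  constructor
  · intro h; rw [if_pos h]
  · intro h
    by_contra hne
    rw [if_neg hne] at h
    exact one_ne_zero h

theorem psi_comm_or (j k : KT) :
    psi j.1 * psi k.1 = psi k.1 * psi j.1 ∨ psi j.1 * psi k.1 = zS * (psi k.1 * psi j.1) := by
  rcases comm_or' (phK j) (phK k) with e | e
  · left
    rw [← map_mul, ← map_mul, ← Subgroup.coe_mul, ← Subgroup.coe_mul, psi_eq_iff, map_mul, map_mul, e]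
  · right
    rw [zS, ← map_mul, ← map_mul, ← map_mul]
    exact (psi_eq_iff (j * k) (⟨zT, zT_mem_KT⟩ * (k * j))).2 (by rw [map_mul, map_mul, map_mul, phK_zT, e])

theorem moveWord_facts :
    (moveWord.all Step.ok &&
    sameWord (moveWord ++ aWord) (aWord ++ moveWord) &&
    sameWord ([Step.m (List.range 24) moveMask] ++ aWord) (aWord ++ [Step.m (List.range 24) moveMask]) &&
    sameWord (moveWord ++ zWord) ([Step.m (List.range 24) moveMask] ++ moveWord) &&
    disjWords.contains moveMask && !(moveMask == coMask) && (zWord.all Step.ok) &&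
    (Golay.isCodeMask octMask)) = true := by
  decide +kernel

theorem zWord_eq : wordCo zWord = zCo := by
  show wordCo [Step.m _ _] = _
  rw [wordCo_singleton]
  show elt _ _ = _
  refine monoS_congr ?_ ?_
  · rw [show ([0, 1, 2, 3, 4, 5, 6, 7, 8, 9, 10, 11, 12, 13, 14, 15, 16, 17, 18, 19, 20, 21, 22, 23] : List ℕ) =
      List.range 24 from rfl, rho_id]
  · rw [cs, if_pos (by decide +kernel)]; rfl

theorem fused : ∃ g : Sect, g * zS * g⁻¹ ∈ QS ∧ g * zS * g⁻¹ ≠ zS := by
  have h := moveWord_facts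
  simp only [Bool.and_eq_true, Bool.not_eq_true', beq_eq_false_iff_ne] at h
  obtain ⟨⟨⟨⟨⟨⟨⟨-, h1⟩, h2⟩, h3⟩, h4⟩, h5⟩, -⟩, -⟩ := h
  have hm : moveMask ∈ disjWords := by simpa using h4
  have hg : wordCo moveWord ∈ Cgrp := mem_Cgrp.2 (by
    show wordCo moveWord * wordCo aWord = wordCo aWord * wordCo moveWord
    rw [← wordCo_append, ← wordCo_append]; exact eq_of_sameWord h1)
  let kS : stab := ⟨elt (List.range 24) moveMask, elt_mem_stab id_mem moveMask⟩
  have hk : kS ∈ T := mem_T.2 (Subtype.ext (by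
    show elt (List.range 24) moveMask * wordCo aWord = wordCo aWord * elt (List.range 24) moveMask
    have e := eq_of_sameWord h2
    rwa [wordCo_append, wordCo_append, wordCo_singleton] at e))
  have hkK : (⟨kS, hk⟩ : T) ∈ KT := mem_KT.2 (ker_iff.2 (elt_isKer id_mem hm))
  have e3 : wordCo moveWord * zCo = elt (List.range 24) moveMask * wordCo moveWord := by
    have e := eq_of_sameWord h3
    rwa [wordCo_append, wordCo_append, wordCo_singleton, zWord_eq] at e
  let gS : Sect := QuotientGroup.mk' Ngrp ⟨_, hg⟩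
  have he : gS * zS * gS⁻¹ = psi ⟨kS, hk⟩ := by
    rw [mul_inv_eq_iff_eq_mul]
    show QuotientGroup.mk' Ngrp _ * QuotientGroup.mk' Ngrp (iota zT) =
      QuotientGroup.mk' Ngrp (iota ⟨kS, hk⟩) * QuotientGroup.mk' Ngrp _
    rw [← map_mul, ← map_mul]
    exact congrArg _ (Subtype.ext e3)
  refine ⟨gS, he ▸ ⟨⟨_, hkK⟩, rfl⟩, fun heq => ?_⟩
  rw [he] at heq
  have e := (psi_eq_iff ⟨_, hkK⟩ ⟨zT, zT_mem_KT⟩).1 heq
  rw [phK_zT] at e
  have e' : ((qElt id_mem moveMask : centZ) : Spor.Co1) = qElt id_mem coMask :=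
    congrArg (fun q : bigQ => ((q : centZ) : Spor.Co1)) e
  exact h5 (proj_inj (hσ := (rho (List.range 24)).2) (hτ := (rho (List.range 24)).2) hm coMask_mem e').2

theorem centData : CentData zS QS where
  z_ne := psi_zT_ne_one
  z_sq := zS_sq
  z_mem := ⟨⟨zT, zT_mem_KT⟩, rfl⟩
  le_cent := by rintro _ ⟨k, rfl⟩; exact psi_commute_zS k.1
  twoGroup := IsPGroup.of_card (n := 7) (by rw [card_QS]; norm_num)
  conj_mem := by
    rintro c hc _ ⟨k, rfl⟩
    obtain ⟨g, rfl⟩ := exists_psi hc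
    exact ⟨conjK g k, psi_conjK g k⟩
  central := by
    rintro _ ⟨k, rfl⟩ h
    have hk : kap (phK k) = 0 := by
      funext j
      rcases j with j | j
      · obtain ⟨i, hi⟩ := flip8_inl j
        obtain ⟨m, hm⟩ := exists_phK (vQ_inl_mem i)
        show cbit (phK k) (vQ (flip8 (.inl j))) = 0
        rw [hi, ← hm, ← psi_comm_iff]
        exact h _ ⟨m, rfl⟩
      · exact phK_mem k j
    rcases eq_of_kap_eq_zero hk with e | e
    · exact Or.inl ((psi_eq_one_iff_phK k).2 e)
    · exact Or.inr ((psi_eq_iff k ⟨zT, zT_mem_KT⟩).2 (by rw [e, phK_zT]))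
  comm := by
    rintro _ ⟨j, rfl⟩ _ ⟨k, rfl⟩
    exact psi_comm_or j k
  pair := by
    rintro _ ⟨k, rfl⟩
    obtain ⟨f, g, h1, h2, h3⟩ := pair_check (kap6 (phK k))
    obtain ⟨x, hx, rfl⟩ := exists_QA f
    obtain ⟨y, hy, rfl⟩ := exists_QA g
    obtain ⟨a, rfl⟩ := exists_phK hx
    obtain ⟨b, rfl⟩ := exists_phK hy
    refine ⟨_, ⟨a, rfl⟩, _, ⟨b, rfl⟩, (psi_comm_iff a k).2 ?_, (psi_comm_iff b k).2 ?_,
      fun e => one_ne_zero (h3.symm.trans ?_)⟩
    · rw [cbit_QA hx (phK_mem k)]; exact h1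
    · rw [cbit_QA hy (phK_mem k)]; exact h2
    · rw [← cbit_QA hx hy]; exact (psi_comm_iff a b).1 e
  faithful := by
    intro c hc h
    obtain ⟨g, rfl⟩ := exists_psi hc
    exact psi_faithful h
  irred := by
    intro M hM hinv ⟨x, hx, hx1, hxz⟩
    obtain ⟨k, rfl⟩ := hM hx
    let W : Set (I6 → ZMod 2) := {u | ∃ j : KT, psi j.1 ∈ M ∧ kap6 (phK j) = u}
    have hW := omega_irreducible W ⟨1, by rw [OneMemClass.coe_one, map_one]; exact one_mem M,
        by rw [map_one]; exact funext fun i => congrFun kap_one _⟩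
      (by
        rintro _ ⟨j, hj, rfl⟩ _ ⟨l, hl, rfl⟩
        exact ⟨j * l, by rw [Subgroup.coe_mul, map_mul]; exact mul_mem hj hl,
          by rw [map_mul]; exact funext fun i => congrFun (kap_mul _ _) _⟩)
      (by
        intro σ hσ _ ⟨j, hj, e⟩
        rw [← rho6_range.1] at hσ
        obtain ⟨g, rfl⟩ := hσ
        refine ⟨conjK g j, by rw [psi_conjK]; exact hinv _ (psi_commute_zS g) _ hj, ?_⟩
        rw [phK_conjK, kap6_conj g (phK_mem j), e, appl_rho6])
      ⟨_, ⟨k, hx, rfl⟩, fun h0 => by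
        have h8 : kap (phK k) = 0 := by
          rw [kap_eq_elim (phK_mem k), h0]; funext i; rcases i with i | i <;> rfl
        rcases eq_of_kap_eq_zero h8 with e | e
        · exact hx1 ((psi_eq_one_iff_phK k).2 e)
        · exact hxz ((psi_eq_iff k ⟨zT, zT_mem_KT⟩).2 (by rw [e, phK_zT]))⟩
    have hzM : zS ∈ M := by
      obtain ⟨a, ha, hka⟩ := hW (Pi.single (.inl (.inl 0)) 1)
      obtain ⟨b, hb, hkb⟩ := hW (Pi.single (.inl (.inr 0)) 1)
      have hc : cbit (phK a) (phK b) = 1 := by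
        rw [cbit_QA (phK_mem a) (phK_mem b), hka, hkb]; decide +kernel
      rcases psi_comm_or a b with e | e
      · exact absurd ((psi_comm_iff a b).1 e) (by rw [hc]; exact one_ne_zero)
      · have : zS = psi a.1 * psi b.1 * (psi b.1 * psi a.1)⁻¹ := by rw [e, mul_inv_cancel_right]
        rw [this]
        exact mul_mem (mul_mem ha hb) (inv_mem (mul_mem hb ha))
    rintro _ ⟨j, rfl⟩
    obtain ⟨l, hl, e⟩ := hW (kap6 (phK j))
    have e8 : kap (phK j) = kap (phK l) := by rw [kap_eq_elim (phK_mem j), kap_eq_elim (phK_mem l), e]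
    rcases eq_or_of_kap_eq e8 with h | h
    · show psi j.1 ∈ M
      rw [(psi_eq_iff j l).2 h]; exact hl
    · show psi j.1 ∈ M
      rw [(psi_eq_iff j (⟨zT, zT_mem_KT⟩ * l)).2 (by rw [map_mul, phK_zT, h]), Subgroup.coe_mul, map_mul]
      exact mul_mem hzM hl
  maximal := by
    intro M hQM hMz hMn
    haveI := rho6_range.2
    haveI : IsSimpleGroup rho6.range := by rw [rho6_range.1]; exact rho6_range.2
    haveI : (M.comap psi).Normal := ⟨fun x hx g => by
      show psi (g * x * g⁻¹) ∈ M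
      rw [map_mul, map_mul, map_inv]; exact hMn _ (psi_commute_zS g) _ hx⟩
    rcases (Subgroup.Normal.map (H := M.comap psi) inferInstance rho6.rangeRestrict
      rho6.rangeRestrict_surjective).eq_bot_or_eq_top with hb | ht
    · left
      intro x hx
      obtain ⟨g, rfl⟩ := exists_psi (hMz x hx)
      have h6 : rho6 g = 1 := by
        have := (Subgroup.map_eq_bot_iff _).1 hb (show g ∈ M.comap psi from hx)
        rwa [MonoidHom.ker_rangeRestrict] at this
      obtain ⟨i, -, hi⟩ := rho6_ker_cases h6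
      exact ⟨⟨_, hi⟩, by show psi (aT ^ i * g) = psi g; rw [map_mul, map_pow, psi_aT, one_pow, one_mul]⟩
    · right
      intro c hc
      obtain ⟨g, rfl⟩ := exists_psi hc
      obtain ⟨t, htM, hte⟩ : rho6.rangeRestrict g ∈ (M.comap psi).map rho6.rangeRestrict := by
        rw [ht]; trivial
      have h6 : rho6 (g * t⁻¹) = 1 := by
        rw [map_mul, map_inv, mul_inv_eq_one]; exact (congrArg Subtype.val hte).symm
      obtain ⟨i, -, hi⟩ := rho6_ker_cases h6
      have hgt : psi (g * t⁻¹) ∈ M := hQM ⟨⟨_, hi⟩, by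
        show psi (aT ^ i * (g * t⁻¹)) = psi (g * t⁻¹)
        rw [map_mul, map_pow, psi_aT, one_pow, one_mul]⟩
      have := mul_mem hgt (show psi t ∈ M from htM)
      rwa [← map_mul, inv_mul_cancel_right] at this
  fused := fused

/-! ### The statement -/

/-- `T` onto the centraliser. -/
noncomputable def psiC : T →* Subgroup.centralizer ({zS} : Set Sect) :=
  psi.codRestrict _ fun g => Subgroup.mem_centralizer_singleton_iff.2 (psi_commute_zS g)

theorem psiC_surjective : Function.Surjective psiC := fun x => by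
  obtain ⟨g, hg⟩ := exists_psi (Subgroup.mem_centralizer_singleton_iff.1 x.2)
  exact ⟨g, Subtype.ext hg⟩

theorem main : ∃ A : Subgroup ↥Cfsg.Co0, Nat.card A = 3 ∧ ∃ (hn : ((A ⊔ Subgroup.center ↥Cfsg.Co0).subgroupOf (Subgroup.centralizer (A : Set ↥Cfsg.Co0))).Normal), ∃ (S : Type) (_ : Group S) (_ : Finite S), Nonempty (S ≃* ↥(Subgroup.centralizer (A : Set ↥Cfsg.Co0)) ⧸ (A ⊔ Subgroup.center ↥Cfsg.Co0).subgroupOf (Subgroup.centralizer (A : Set ↥Cfsg.Co0))) ∧ IsSimpleGroup S ∧ ¬ IsMulCommutative S ∧ ∃ z : S, orderOf z = 2 ∧ ∃ (Q : Subgroup (Subgroup.centralizer ({z} : Set S))) (_ : Q.Normal), Cfsg.generalizedFittingSubgroup (Subgroup.centralizer ({z} : Set S)) = Q ∧ Cfsg.IsExtraspecial 2 Q ∧ Nat.card Q = 2 ^ 7 ∧ Nonempty ((Subgroup.centralizer ({z} : Set S)) ⧸ Q ≃* Cfsg.Omega (ZMod 2) (Cfsg.quadFormMinus 2 (ZMod 2) 1 1)) ∧ ∃ g : S, (∃ hq : g * z * g⁻¹ ∈ Subgroup.centralizer ({z} : Set S), (⟨g * z * g⁻¹, hq⟩ : Subgroup.centralizer ({z} : Set S)) ∈ Q) ∧ g *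 z * g⁻¹ ≠ z := by
  haveI := finite_co0
  haveI : Fact (Nat.Prime 2) := ⟨Nat.prime_two⟩
  haveI : Fact (Nat.Prime 3) := ⟨Nat.prime_three⟩
  have hA : Nat.card Agrp = 3 := by
    rw [Agrp, Nat.card_zpowers, orderOf_eq_prime (p := 3)]
    · rw [pow_succ, pow_succ, pow_one]; exact aS_pow_cube
    · intro h
      exact permV_aS_ne (by rw [show aS = 1 from Subtype.ext h, map_one])
  have hD := centData
  obtain ⟨hsimp, hna⟩ := isSimple hD
  refine ⟨Agrp, hA, normal_Ngrp, Sect, inferInstance, inferInstance, ⟨MulEquiv.refl _⟩, hsimp, hna, zS,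
    orderOf_eq_prime (by rw [sq, zS_sq]) psi_zT_ne_one, QS.subgroupOf (Subgroup.centralizer {zS}), ?_⟩
  have hQC : QS ≤ Subgroup.centralizer {zS} := fun x hx =>
    Subgroup.mem_centralizer_singleton_iff.2 (hD.le_cent x hx)
  have hnorm : (QS.subgroupOf (Subgroup.centralizer {zS})).Normal := ⟨fun x hx c =>
    Subgroup.mem_subgroupOf.2 (hD.conj_mem _ (Subgroup.mem_centralizer_singleton_iff.1 c.2) _
      (Subgroup.mem_subgroupOf.1 hx))⟩
  haveI := hnorm
  set Q := QS.subgroupOf (Subgroup.centralizer {zS}) with hQ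
  have hcard : Nat.card Q = 2 ^ 7 := by
    rw [hQ, Nat.card_congr (Subgroup.subgroupOfEquivOfLe hQC).toEquiv, card_QS]; norm_num
  -- the representation on the centraliser
  have hle : psiC.ker ≤ rho6.ker := by
    intro g hg
    rw [MonoidHom.mem_ker]
    obtain ⟨i, e | e⟩ := psi_cases (congrArg Subtype.val (MonoidHom.mem_ker.1 hg) : psi g = 1)
    · rw [e, map_zpow, rho6_aT, one_zpow]
    · rw [e, map_mul, map_zpow, rho6_aT, one_zpow, one_mul, rho6_KT nT_mem_KT]
  let rb : Subgroup.centralizer ({zS} : Set Sect) →* O6 :=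
    psiC.liftOfSurjective psiC_surjective ⟨rho6, hle⟩
  have hrb : ∀ g, rb (psiC g) = rho6 g := fun g =>
    MonoidHom.liftOfRightInverse_comp_apply _ _ _ ⟨rho6, hle⟩ g
  have hker : rb.ker = Q := by
    ext x
    obtain ⟨g, rfl⟩ := psiC_surjective x
    rw [MonoidHom.mem_ker, hrb, hQ, Subgroup.mem_subgroupOf]
    constructor
    · intro h6
      obtain ⟨i, -, hi⟩ := rho6_ker_cases h6
      exact ⟨⟨_, hi⟩, by show psi (aT ^ i * g) = psi g; rw [map_mul, map_pow, psi_aT, one_pow, one_mul]⟩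
    · rintro ⟨k, hk⟩
      have hk' : psi (k.1⁻¹ * g) = 1 := by
        rw [map_mul, map_inv, show psi k.1 = psi g from hk, inv_mul_cancel]
      have h1 := MonoidHom.mem_ker.1 (hle (MonoidHom.mem_ker.2 (Subtype.ext hk' : psiC (k.1⁻¹ * g) = 1)))
      rw [map_mul, map_inv, rho6_KT k.2, inv_one, one_mul] at h1
      exact h1
  have hrange : rb.range = Omega (ZMod 2) q6 := by
    rw [← rho6_range.1]
    ext σ
    constructor
    · rintro ⟨x, rfl⟩; obtain ⟨g, rfl⟩ := psiC_surjective x; exact ⟨g, (hrb g).symm⟩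
    · rintro ⟨g, rfl⟩; exact ⟨psiC g, hrb g⟩
  have hcent : Subgroup.centralizer (Q : Set _) ≤ Q := by
    intro c hc
    refine Subgroup.mem_subgroupOf.2 (hD.faithful _ (Subgroup.mem_centralizer_singleton_iff.1 c.2) fun x hx => Or.inl ?_)
    exact (congrArg Subtype.val (Subgroup.mem_centralizer_iff.1 hc ⟨x, hQC hx⟩ (Subgroup.mem_subgroupOf.2 hx))).symm
  have hQ2 : IsPGroup 2 Q := IsPGroup.of_card hcard
  refine ⟨hnorm, ?_, ?_, hcard, ⟨((QuotientGroup.quotientMulEquivOfEq hker.symm).trans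
    (QuotientGroup.quotientKerEquivRange rb)).trans (MulEquiv.subgroupCongr hrange)⟩, ?_⟩
  · have hp : pCore 2 (Subgroup.centralizer ({zS} : Set Sect)) = Q := by
      refine le_antisymm ?_ (PSolvable.le_pCore hQ2)
      haveI : IsSimpleGroup rb.range := by rw [hrange]; exact rho6_range.2
      haveI hnc : (pCore 2 (Subgroup.centralizer ({zS} : Set Sect))).Normal := inferInstance
      rcases (Subgroup.Normal.map hnc rb.rangeRestrict rb.rangeRestrict_surjective).eq_bot_or_eq_top with h | h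
      · rw [← hker, ← MonoidHom.ker_rangeRestrict]; exact (Subgroup.map_eq_bot_iff _).1 h
      · exfalso
        obtain ⟨k, hk⟩ := IsPGroup.iff_card.1
          ((PSolvable.pCore_isPGroup (p := 2) (G := Subgroup.centralizer ({zS} : Set Sect))).map rb.rangeRestrict)
        rw [h, Subgroup.card_top, hrange, ← rho6_range.1] at hk
        have h25 : Nat.card rho6.range = 25920 := by
          have hh := rho6.ker.card_eq_card_quotient_mul_card_subgroup
          rw [Nat.card_congr (QuotientGroup.quotientKerEquivRange rho6).toEquiv, card_T, card_rho6_ker] at hh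
          omega
        rw [h25] at hk
        have h3 : 3 ∣ 2 ^ k := hk ▸ by norm_num
        exact absurd ((Nat.prime_dvd_prime_iff_eq Nat.prime_three Nat.prime_two).1
          (Nat.prime_three.dvd_of_dvd_pow h3)) (by norm_num)
    exact (CharP.generalizedFittingSubgroup_eq_pCore (p := 2) (by rw [hp]; exact hcent)).trans hp
  · let zE : Q := ⟨⟨zS, hQC hD.z_mem⟩, Subgroup.mem_subgroupOf.2 hD.z_mem⟩
    have up : ∀ {a b : Q}, ((a.1 : Sect)) = (b.1 : Sect) → a = b := fun h => Subtype.ext (Subtype.ext h)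
    have hm : ∀ a : Q, ((a.1 : Sect)) ∈ QS := fun a => Subgroup.mem_subgroupOf.1 a.2
    have hzc : zE ∈ Subgroup.center Q := Subgroup.mem_center_iff.2 fun a => up (hD.le_cent _ (hm a))
    have hall : ∀ a ∈ Subgroup.center Q, a = 1 ∨ a = zE := fun a ha =>
      (hD.central _ (hm a) fun y hy => (congrArg (fun q : Q => (q.1 : Sect))
        (Subgroup.mem_center_iff.1 ha ⟨⟨y, hQC hy⟩, Subgroup.mem_subgroupOf.2 hy⟩)).symm).imp up up
    obtain ⟨u, hu, v, hv, -, -, huv⟩ := hD.pair _ hD.z_mem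
    refine LargeES.Heisenberg.isExtraspecial_of_props (z := zE) (x := ⟨⟨u, hQC hu⟩, Subgroup.mem_subgroupOf.2 hu⟩)
      (y := ⟨⟨v, hQC hv⟩, Subgroup.mem_subgroupOf.2 hv⟩) hQ2
      (fun h => psi_zT_ne_one (congrArg (fun q : Q => (q.1 : Sect)) h)) hzc hall ?_ ?_
      (fun h => huv (congrArg (fun q : Q => (q.1 : Sect)) h))
    · intro a
      obtain ⟨k, hk⟩ := mem_QS.1 (hm a)
      rcases sq_or' (phK k) with e | e
      · have e' : a ^ 2 = 1 := up (by
          rw [sq]
          show (a.1 : Sect) * a.1 = 1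
          rw [← hk, ← map_mul, ← Subgroup.coe_mul]
          exact (psi_eq_one_iff_phK _).2 (by rw [map_mul, e]))
        rw [e']; exact one_mem _
      · have e' : a ^ 2 = zE := up (by
          rw [sq]
          show (a.1 : Sect) * a.1 = zS
          rw [← hk, ← map_mul, ← Subgroup.coe_mul]
          exact (psi_eq_iff _ ⟨zT, zT_mem_KT⟩).2 (by rw [map_mul, e, phK_zT]))
        rw [e']; exact hzc
    · intro a b
      rcases hD.comm _ (hm a) _ (hm b) with e | e
      · rw [show a * b = b * a from up e, mul_assoc, mul_assoc, mul_inv_cancel_left, mul_inv_cancel]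
        exact one_mem _
      · rw [show a * b = zE * (b * a) from up e, mul_assoc zE, mul_assoc zE, mul_assoc b a,
          mul_inv_cancel, mul_one, mul_inv_cancel, mul_one]
        exact hzc
  · obtain ⟨g, hgQ, hgz⟩ := hD.fused
    exact ⟨g, ⟨hQC hgQ, Subgroup.mem_subgroupOf.2 hgQ⟩, hgz⟩

end Cfsg.Agent.Lib.Leech.Suz
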