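import Cfsg.Agent.Lib.Leech.Co1TwoA.Main

/-!
Words in the sextet element and monomial elements of the Leech group, evaluated on coordinate lists.
-/

set_option autoImplicit false

namespace Cfsg.Agent.Lib.Leech.Suz

open Cfsg
open Cfsg.Agent.Lib
open Cfsg.Agent.Lib.Leech.Co1TwoA

/-- One letter. -/
inductive Step
  | x
  | m (l : List ℕ) (s : ℕ)

/-- The element of a letter. -/
noncomputable def Step.elem : Step → Co0
  | .x => xiCo
  | .m l s => elt l s

/-- The element of a word; the first letter acts last. -/
noncomputable def wordCo (w : List Step) : Co0 := (w.map Step.elem).prod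

theorem wordCo_append (a b : List Step) : wordCo (a ++ b) = wordCo a * wordCo b := by
  simp [wordCo]

theorem wordCo_singleton (s : Step) : wordCo [s] = s.elem := by simp [wordCo]

/-- The function of a coordinate list. -/
def vecOf (L : List ℤ) : GolayPt → ℤ := fun p => L.getD (Golay.idx p).val 0

/-- The members of the tetrad of a coordinate. -/
def tetL : Fin 6 → List ℕ :=
  ![[0, 1, 2, 23], [3, 5, 14, 17], [8, 11, 12, 18], [9, 10, 15, 20], [6, 7, 19, 21], [4, 13, 16, 22]]

theorem tetL_spec : ∀ k : Fin 6,
    (((tetL k).filterMap fun j => if h : j < 24 then some (Golay.pt ⟨j, h⟩) else none).toFinset =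
      Finset.univ.filter fun p => tetId p = k) ∧ (tetL k).Nodup ∧ ∀ j ∈ tetL k, j < 24 := by
  decide +kernel

/-- The tetrad sum on lists. -/
def sumL (k : Fin 6) (L : List ℤ) : ℤ := ((tetL k).map fun j => L.getD j 0).sum

/-- The sextet element on lists. -/
def xiL (L : List ℤ) : List ℤ :=
  let h := (List.finRange 6).map fun k => sumL k L / 2
  (List.finRange 24).map fun i =>
    if tetId (Golay.pt i) = 0 then h.getD (tetId (Golay.pt i)).val 0 - L.getD i.val 0
    else L.getD i.val 0 - h.getD (tetId (Golay.pt i)).val 0

/-- The position sent to a coordinate. -/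
def preNum (l : List ℕ) (i : ℕ) : ℕ := l.findIdx (fun a => a % 24 == i) % 24

/-- A monomial element on lists. -/
def monoL (l : List ℕ) (s : ℕ) (L : List ℤ) : List ℤ :=
  (List.range 24).map fun i => if s.testBit i then -L.getD (preNum l i) 0 else L.getD (preNum l i) 0

/-- A letter on lists. -/
def Step.run : Step → List ℤ → List ℤ
  | .x => xiL
  | .m l s => monoL l s

/-- The validity of a letter. -/
def Step.ok : Step → Bool
  | .x => true
  | .m l s => Golay.inM24 l && Golay.isCodeMask s &&
      (List.range 24).all fun i => Golay.applyNum l (preNum l i) == i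

/-- A word on lists. -/
def wordL (w : List Step) (L : List ℤ) : List ℤ := w.foldr Step.run L

theorem vecOf_map (f : Fin 24 → ℤ) (p : GolayPt) :
    vecOf ((List.finRange 24).map f) p = f (Golay.idx p) := by
  rw [vecOf, List.getD_eq_getElem _ _ (by simp)]
  simp

theorem vecOf_range_map (f : ℕ → ℤ) (p : GolayPt) :
    vecOf ((List.range 24).map f) p = f (Golay.idx p).val := by
  rw [vecOf, List.getD_eq_getElem _ _ (by simp)]
  simp

theorem tetSum_vecOf (L : List ℤ) (p : GolayPt) : tetSum (vecOf L) p = sumL (tetId p) L := by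
  obtain ⟨he, hnd, hlt⟩ := tetL_spec (tetId p)
  rw [tetSum, ← Finset.sum_filter, ← he, sumL]
  rw [List.sum_toFinset _ ?_]
  · congr 1
    rw [List.map_filterMap, ← List.filterMap_eq_map]
    refine List.filterMap_congr fun j hj => ?_
    simp [dif_pos (hlt j hj), vecOf, Golay.idx_pt]
  · refine hnd.filterMap ?_
    intro a b c ha hb
    by_cases h1 : a < 24 <;> by_cases h2 : b < 24 <;> simp [h1, h2] at ha hb
    have := congrArg (fun q => (Golay.idx q).val) (ha.trans hb.symm)
    simpa [Golay.idx_pt] using this

theorem xiMap_vecOf (L : List ℤ) : xiMap (vecOf L) = vecOf (xiL L) := by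
  funext p
  rw [xiL, vecOf_map, Golay.pt_idx]
  have h : ((List.finRange 6).map fun k => sumL k L / 2).getD (tetId p).val 0 = sumL (tetId p) L / 2 := by
    rw [List.getD_eq_getElem _ _ (by simp)]
    simp
  simp only [xiMap, tetSum_vecOf, h]
  rfl

theorem signedPerm_vecOf {l : List ℕ} {s : ℕ} (h : (Step.m l s).ok = true) (L : List ℤ) :
    signedPerm (rho l).1 (cs s) (vecOf L) = vecOf (monoL l s L) := by
  simp only [Step.ok, Bool.and_eq_true] at h
  obtain ⟨⟨hl, hs⟩, hp⟩ := h
  funext p
  rw [monoL, vecOf_range_map, signedPerm, cs, if_pos hs]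
  have hpre : (Golay.idx ((rho l).1.symm p)).val = preNum l (Golay.idx p).val := by
    have hlt : preNum l (Golay.idx p).val < 24 := Nat.mod_lt _ (by norm_num)
    have hb := List.all_eq_true.1 hp _ (List.mem_range.2 (Golay.idx p).isLt)
    rw [beq_iff_eq] at hb
    have e : (rho l).1.symm p = Golay.pt ⟨_, hlt⟩ := by
      rw [Equiv.symm_apply_eq, Golay.StabCert.rho_val hl]
      refine Golay.ptEquiv.injective (Fin.ext ?_)
      show (Golay.idx p).val = (Golay.idx _).val
      rw [Golay.idx_toPerm (Golay.inM24.valid hl), Golay.idx_pt]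
      exact hb.symm
    rw [e, Golay.idx_pt]
  simp only [Golay.mem_ptsOf, vecOf, hpre]

theorem word_smul : ∀ {w : List Step}, w.all Step.ok = true → ∀ (L : List ℤ) (v : leechLattice),
    (v : GolayPt → ℤ) = vecOf L → ((wordCo w • v : leechLattice) : GolayPt → ℤ) = vecOf (wordL w L) := by
  intro w
  induction w with
  | nil => intro _ L v hv; simpa [wordCo, wordL] using hv
  | cons s w ih =>
    intro hok L v hv
    rw [List.all_cons, Bool.and_eq_true] at hok
    have e : wordCo (s :: w) • v = s.elem • (wordCo w • v) := by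
      rw [← mul_smul]; simp [wordCo]
    rw [e]
    show _ = vecOf (s.run (wordL w L))
    cases s with
    | x =>
      show ((xiCo • _ : leechLattice) : GolayPt → ℤ) = _
      rw [xiCo_smul, ih hok.2 L v hv, xiMap_vecOf]; rfl
    | m l t =>
      show ((elt l t • _ : leechLattice) : GolayPt → ℤ) = _
      rw [elt, monoS_smul, ih hok.2 L v hv, signedPerm_vecOf hok.1]; rfl

/-- The list of a standard frame vector. -/
def frameL (i : Fin 24) : List ℤ := (List.range 24).map fun j => if j = i.val then 8 else 0

theorem vec8_pt (i : Fin 24) : vec8 (Golay.pt i) = vecOf (frameL i) := by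
  funext p
  rw [frameL, vecOf_range_map, vec8]
  by_cases h : p = Golay.pt i
  · subst h; simp [Golay.idx_pt]
  · rw [Pi.single_eq_of_ne h, if_neg]
    intro e
    exact h (by rw [← Golay.pt_idx p, Fin.ext e])

/-- A test for two words to give the same element. -/
def sameWord (a b : List Step) : Bool :=
  a.all Step.ok && b.all Step.ok &&
    (List.finRange 24).all fun i => wordL a (frameL i) == wordL b (frameL i)

theorem eq_of_sameWord {a b : List Step} (h : sameWord a b = true) : wordCo a = wordCo b := by
  simp only [sameWord, Bool.and_eq_true, List.all_eq_true, beq_iff_eq, List.mem_finRange,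
    forall_const] at h
  obtain ⟨⟨ha, hb⟩, hv⟩ := h
  refine co0_ext_pt8 fun p => Subtype.ext ?_
  rw [word_smul (List.all_eq_true.2 ha) (frameL (Golay.idx p)) (pt8 p)
      (by rw [← vec8_pt, Golay.pt_idx]; rfl),
    word_smul (List.all_eq_true.2 hb) (frameL (Golay.idx p)) (pt8 p)
      (by rw [← vec8_pt, Golay.pt_idx]; rfl), hv]

/-- A letter commuting with the octad sign change. -/
def Step.stabOk : Step → Bool
  | .x => true
  | .m l s => (Step.m l s).ok && (Golay.imageMask l octMask == octMask)

theorem elem_mem_stab {s : Step} (h : s.stabOk = true) : s.elem ∈ stab := by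
  cases s with
  | x => exact xiCo_mem_stab
  | m l t =>
    simp only [Step.stabOk, Step.ok, Bool.and_eq_true, beq_iff_eq] at h
    refine (monoS_mem_stab_iff (hσ := (rho l).2) (hs := cs_code t)).2 ?_
    rw [Golay.StabCert.rho_val h.1.1.1, octO, Golay.toPerm_smul_ptsOf (Golay.inM24.valid h.1.1.1), h.2]

theorem wordCo_mem_stab {w : List Step} (h : w.all Step.stabOk = true) : wordCo w ∈ stab :=
  list_prod_mem fun g hg => by
    obtain ⟨s, hs, rfl⟩ := List.mem_map.1 hg
    exact elem_mem_stab (List.all_eq_true.1 h s hs)

theorem all_ok_of_stabOk {w : List Step} (h : w.all Step.stabOk = true) : w.all Step.ok = true :=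
  List.all_eq_true.2 fun s hs => by
    have := List.all_eq_true.1 h s hs
    cases s with
    | x => rfl
    | m l t => exact (Bool.and_eq_true_iff.1 this).1

/-- The element of the centraliser given by a word. -/
noncomputable def wordStab (w : List Step) (h : w.all Step.stabOk = true) : stab :=
  ⟨wordCo w, wordCo_mem_stab h⟩

end Cfsg.Agent.Lib.Leech.Suz
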